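import Cfsg.Agent.Lib.GLClassNumber.Unipotent

/-!
Classes of elements of order `r ≠ p` in `GL_n(q)`.
-/

namespace CfsgLib.GLClassNumber

open Polynomial

universe u

variable {F : Type u} [Field F] [Fintype F] {n : ℕ}

section cyclotomic

variable {p r : ℕ} [Fact p.Prime] [CharP F p]

omit [Fintype F] in
lemma natCast_ne_zero_of_prime_ne (hr : r.Prime) (hrp : r ≠ p) : (r : F) ≠ 0 := by
  intro h
  have := (CharP.cast_eq_zero_iff F p r).mp h
  exact hrp ((Nat.prime_dvd_prime_iff_eq (Fact.out : p.Prime) hr).mp this).symm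

omit [Fintype F] in
lemma X_pow_sub_one_sep (hr : r.Prime) (hrp : r ≠ p) : (X ^ r - Polynomial.C (1 : F)).Separable :=
  separable_X_pow_sub_C 1 (natCast_ne_zero_of_prime_ne (F := F) (p := p) hr hrp) one_ne_zero

lemma natDegree_factor (hr : r.Prime) (hrp : r ≠ p) {f : F[X]} (hf : Irreducible f) (hm : f.Monic)
    (hdvd : f ∣ X ^ r - Polynomial.C 1) (hne : f ≠ X - Polynomial.C 1) :
    f.natDegree = orderOf (Fintype.card F : ZMod r) := by
  classical
  have : Fact r.Prime := ⟨hr⟩
  obtain ⟨k, -, hq⟩ := FiniteField.card F p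
  have hqr : (Fintype.card F : ZMod r) ≠ 0 := by
    rw [Ne, ZMod.natCast_eq_zero_iff]
    intro h
    rw [hq] at h
    exact hrp ((Nat.prime_dvd_prime_iff_eq hr (Fact.out : p.Prime)).mp (hr.dvd_of_dvd_pow h))
  have hsub : ∀ m, r ∣ Fintype.card F ^ m - 1 ↔ (Fintype.card F : ZMod r) ^ m = 1 := fun m => by
    rw [← Nat.cast_pow]
    conv_rhs => rw [← Nat.cast_one, ZMod.natCast_eq_natCast_iff]
    exact (Nat.modEq_iff_dvd' (Nat.one_le_pow _ _ Fintype.card_pos)).symm.trans Nat.ModEq.comm
  have : Fact (Irreducible f) := ⟨hf⟩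
  let a := AdjoinRoot.root f
  have hzero : ∀ P : F[X], f ∣ P ↔ aeval a P = 0 := fun P => by
    rw [AdjoinRoot.aeval_eq, AdjoinRoot.mk_eq_zero]
  have har : a ^ r = 1 := by
    have := (hzero _).mp hdvd
    rwa [map_sub, map_pow, aeval_X, map_one, map_one, sub_eq_zero] at this
  have ha1 : a ≠ 1 := fun h => hne (eq_of_monic_of_associated hm (monic_X_sub_C 1)
    (hf.associated_of_dvd (irreducible_X_sub_C 1) ((hzero _).mpr (by
      rw [map_sub, aeval_X, map_one, map_one]; exact sub_eq_zero.mpr h))))
  have ha0 : a ≠ 0 := fun h => by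
    rw [h, zero_pow hr.ne_zero] at har
    exact zero_ne_one har
  have hX : ∀ m, aeval a (X ^ Nat.card F ^ m - X : F[X]) = 0 ↔ a ^ (Fintype.card F ^ m - 1) = 1 := by
    intro m
    rw [map_sub, map_pow, aeval_X, sub_eq_zero, Nat.card_eq_fintype_card]
    constructor
    · intro h
      refine mul_right_cancel₀ ha0 ?_
      rw [← pow_succ, Nat.sub_add_cancel (Nat.one_le_pow _ _ Fintype.card_pos), h, one_mul]
    · intro h
      rw [← Nat.sub_add_cancel (Nat.one_le_pow m (Fintype.card F) Fintype.card_pos), pow_succ, h,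
        one_mul]
  apply Nat.dvd_antisymm
  · rw [hf.natDegree_dvd_iff_dvd_X_pow_card_pow_sub_X, hzero, hX]
    obtain ⟨e, he⟩ := (hsub _).mpr (pow_orderOf_eq_one (Fintype.card F : ZMod r))
    rw [he, pow_mul, har, one_pow]
  · refine orderOf_dvd_of_pow_eq_one ((hsub _).mp ?_)
    by_contra hnd
    have h1 := (hX f.natDegree).mp ((hzero _).mp
      (hf.natDegree_dvd_iff_dvd_X_pow_card_pow_sub_X.mp dvd_rfl))
    have h2 := pow_gcd_eq_one.mpr ⟨har, h1⟩
    rw [(hr.coprime_iff_not_dvd.mpr hnd).gcd_eq_one, pow_one] at h2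
    exact ha1 h2

open Classical in
/-- The irreducible factors of `X ^ r - 1` other than `X - 1`. -/
noncomputable def nontrivFactors (F : Type u) [Field F] (r : ℕ) : Finset F[X] :=
  (UniqueFactorizationMonoid.normalizedFactors (X ^ r - Polynomial.C (1 : F))).toFinset.erase (X - Polynomial.C 1)

omit [Fintype F] in
lemma mem_nontrivFactors (hr : 0 < r) {f : F[X]} :
    f ∈ nontrivFactors F r ↔ f.Monic ∧ Irreducible f ∧ f ∣ X ^ r - Polynomial.C 1 ∧ f ≠ X - Polynomial.C 1 := by
  classical
  have h0 : (X ^ r - Polynomial.C (1 : F)) ≠ 0 := X_pow_sub_C_ne_zero hr 1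
  rw [nontrivFactors, Finset.mem_erase, Multiset.mem_toFinset, Polynomial.mem_normalizedFactors_iff h0]
  tauto

lemma card_nontrivFactors (hr : r.Prime) (hrp : r ≠ p) :
    (nontrivFactors F r).card * orderOf (Fintype.card F : ZMod r) = r - 1 := by
  classical
  have h0 : (X ^ r - Polynomial.C (1 : F)) ≠ 0 := X_pow_sub_C_ne_zero hr.pos 1
  set M := UniqueFactorizationMonoid.normalizedFactors (X ^ r - Polynomial.C (1 : F)) with hM
  have hnd : M.Nodup :=
    (UniqueFactorizationMonoid.squarefree_iff_nodup_normalizedFactors h0).mp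
      (X_pow_sub_one_sep (p := p) hr hrp).squarefree
  have h1mem : (X - Polynomial.C (1 : F)) ∈ M := by
    rw [hM, Polynomial.mem_normalizedFactors_iff h0]
    refine ⟨irreducible_X_sub_C 1, monic_X_sub_C 1, ?_⟩
    simpa using sub_dvd_pow_sub_pow (X : F[X]) (Polynomial.C 1) r
  have hdeg : (M.map natDegree).sum = r := by
    have hmon : ∀ f ∈ M, f.Monic := fun f hf =>
      ((Polynomial.mem_normalizedFactors_iff h0).mp hf).2.1
    have h := eq_of_monic_of_associated
      (show M.prod.Monic by
        have := monic_multiset_prod_of_monic M id hmon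
        rwa [Multiset.map_id] at this)
      (monic_X_pow_sub_C (1 : F) hr.ne_zero)
      (UniqueFactorizationMonoid.prod_normalizedFactors h0)
    have := congrArg natDegree h
    rwa [natDegree_multiset_prod_of_monic _ hmon, natDegree_X_pow_sub_C] at this
  have hs : ∑ f ∈ M.toFinset, f.natDegree = r := by
    rw [Finset.sum, Multiset.toFinset_val, hnd.dedup, hdeg]
  rw [← Finset.add_sum_erase _ _ (Multiset.mem_toFinset.mpr h1mem), natDegree_X_sub_C] at hs
  have hsum : ∑ f ∈ nontrivFactors F r, f.natDegree = r - 1 := by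
    have he : nontrivFactors F r = M.toFinset.erase (X - Polynomial.C 1) := by
      rw [nontrivFactors]
    rw [he]; omega
  rw [Finset.sum_congr rfl (fun f hf => ?_), Finset.sum_const, smul_eq_mul] at hsum
  · exact hsum
  · obtain ⟨hm, hi, hd, hne⟩ := (mem_nontrivFactors hr.pos).mp hf
    exact natDegree_factor (p := p) hr hrp hi hm hd hne

end cyclotomic

omit [Fintype F] in
lemma semisimple_decomp {g : GL (Fin n) F} {r : ℕ} (hg : g ^ r = 1)
    (hsep : (X ^ r - Polynomial.C (1 : F)).Separable) :
    ∃ (ι : Type u) (_ : Fintype ι) (q : ι → F[X]),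
      (∀ i, (q i).Monic ∧ Irreducible (q i) ∧ q i ∣ X ^ r - Polynomial.C 1) ∧
        HasDecomp g q (fun _ => 1) := by
  classical
  obtain ⟨ι, fι, q, e, hq, hd⟩ := exists_decomp g
  have hkill : ∀ v : Gmod g, (X ^ r - Polynomial.C (1 : F)) • v = 0 := (gmod_smul_eq_zero_iff _).mpr (by
    rw [map_sub, map_pow, aeval_X, map_one, map_one, toEnd,
      ← Matrix.toLin'_pow g.val r, ← Units.val_pow_eq_pow_val, hg, Units.val_one,
      Matrix.toLin'_one, sub_eq_zero]
    rfl)
  have hqe : ∀ i, q i ^ e i ∣ X ^ r - Polynomial.C (1 : F) := fun i => by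
    obtain ⟨E⟩ := hd
    have h1 := hkill (E.symm (Pi.single i (Ideal.Quotient.mk _ (1 : F[X]))))
    rw [← map_smul, map_eq_zero_iff _ E.symm.injective] at h1
    have h2 := congrFun h1 i
    rw [Pi.smul_apply, Pi.single_eq_same, Pi.zero_apply] at h2
    change Ideal.Quotient.mk _ ((X ^ r - Polynomial.C (1 : F)) * 1) = 0 at h2
    rwa [Ideal.Quotient.eq_zero_iff_mem, Ideal.mem_span_singleton, mul_one] at h2
  have he : e = fun _ => 1 := funext fun i => by
    obtain ⟨-, hi, -, he1⟩ := hq i
    by_contra hne
    have h2 : q i * q i ∣ X ^ r - Polynomial.C (1 : F) := by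
      rw [← sq]; exact (pow_dvd_pow (q i) (show 2 ≤ e i by omega)).trans (hqe i)
    exact hi.not_isUnit (hsep.squarefree _ h2)
  subst he
  exact ⟨ι, fι, q, fun i => ⟨(hq i).1, (hq i).2.1, (dvd_pow_self _ one_ne_zero).trans (hqe i)⟩, hd⟩

/-- The kernel of `f` on the module of `g`. -/
noncomputable def kerCard (g : GL (Fin n) F) (f : F[X]) : ℕ :=
  Nat.card {v : Gmod g // f • v = 0}

open Classical in
lemma kerCard_decomp {ι : Type*} [Fintype ι] {g : GL (Fin n) F} {q : ι → F[X]}
    (hq : ∀ i, (q i).Monic ∧ Irreducible (q i)) (h : HasDecomp g q (fun _ => 1)) {f : F[X]}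
    (hf : Irreducible f) (hfm : f.Monic) :
    kerCard g f = Fintype.card F ^ (f.natDegree * (Finset.univ.val.map q).count f) := by
  classical
  obtain ⟨E⟩ := h
  rw [kerCard, Nat.card_congr (E.toEquiv.subtypeEquiv (q := fun x => f • x = 0) fun v => by
    constructor
    · intro hv
      show f • E v = 0
      rw [← map_smul, hv, map_zero]
    · intro hv
      change f • E v = 0 at hv
      rwa [← map_smul, map_eq_zero_iff _ E.injective] at hv)]
  let Ψ : {b : (i : ι) → Qmod (q i ^ 1) // f • b = 0} ≃
      ((i : ι) → {x : Qmod (q i ^ 1) // f • x = 0}) :=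
    { toFun := fun b i => ⟨b.1 i, congrFun b.2 i⟩
      invFun := fun w => ⟨fun i => (w i).1, funext fun i => (w i).2⟩
      left_inv := fun _ => rfl
      right_inv := fun _ => rfl }
  rw [Nat.card_congr Ψ, Nat.card_pi]
  have hc : ∀ i, Nat.card {x : Qmod (q i ^ 1) // f • x = 0} =
      if q i = f then Fintype.card F ^ f.natDegree else 1 := fun i => by
    split_ifs with h
    · have hall : ∀ x : Qmod (q i ^ 1), f • x = 0 := fun x => by
        obtain ⟨s, rfl⟩ := Ideal.Quotient.mk_surjective x
        show Ideal.Quotient.mk _ (f * s) = 0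
        rw [Ideal.Quotient.eq_zero_iff_mem, Ideal.mem_span_singleton, pow_one, h]
        exact dvd_mul_right _ _
      rw [Nat.card_congr (Equiv.subtypeUnivEquiv hall)]
      have := finite_qmod (F := F) (f := q i ^ 1) (pow_ne_zero _ (hq i).2.ne_zero)
      rw [Module.natCard_eq_pow_finrank (K := F), finrank_qmod, pow_one, h, Nat.card_eq_fintype_card]
    · refine Nat.card_eq_one_iff_unique.mpr ⟨⟨fun x y => ?_⟩, ⟨⟨0, smul_zero _⟩⟩⟩
      have hz : ∀ x : {x : Qmod (q i ^ 1) // f • x = 0}, x.1 = 0 := fun x => by
        obtain ⟨s, hs⟩ := Ideal.Quotient.mk_surjective x.1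
        have hx := x.2
        rw [← hs] at hx
        change Ideal.Quotient.mk _ (f * s) = 0 at hx
        rw [Ideal.Quotient.eq_zero_iff_mem, Ideal.mem_span_singleton, pow_one] at hx
        rw [← hs, Ideal.Quotient.eq_zero_iff_mem, Ideal.mem_span_singleton, pow_one]
        refine ((hq i).2.prime.dvd_or_dvd hx).resolve_left fun hd => h ?_
        exact eq_of_monic_of_associated (hq i).1 hfm ((hq i).2.associated_of_dvd hf hd)
      exact Subtype.ext ((hz x).trans (hz y).symm)
  simp only [hc]
  rw [Finset.prod_ite, Finset.prod_const_one, mul_one, Finset.prod_const, ← pow_mul,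
    Multiset.count_map]
  congr 2
  simp [Finset.card_def, Finset.filter_val, eq_comm]

/-- Multisets of nontrivial factors fitting in dimension `n`. -/
abbrev FactorData (F : Type u) [Field F] (r n : ℕ) : Type u :=
  {M : Multiset F[X] // (∀ f ∈ M, f ∈ nontrivFactors F r) ∧ (M.map natDegree).sum ≤ n}

lemma card_factorData {p r i t : ℕ} [Fact p.Prime] [CharP F p] (hr : r.Prime) (hrp : r ≠ p)
    (hi : i = orderOf (Fintype.card F : ZMod r)) (ht : t * i = r - 1) :
    Nat.card (FactorData F r n) = Nat.choose (n / i + t) t ∧ 0 < i := by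
  classical
  have hi0 : 0 < i := by
    rcases Nat.eq_zero_or_pos i with h | h
    · rw [h, mul_zero] at ht; have := hr.two_le; omega
    · exact h
  have hdeg : ∀ f ∈ nontrivFactors F r, f.natDegree = i := fun f hf => by
    obtain ⟨hm, hirr, hd, hne⟩ := (mem_nontrivFactors hr.pos).mp hf
    rw [hi]; exact natDegree_factor (p := p) hr hrp hirr hm hd hne
  have hcard : (nontrivFactors F r).card = t := by
    have h := card_nontrivFactors (F := F) (p := p) hr hrp
    rw [← hi, ← ht] at h
    exact Nat.eq_of_mul_eq_mul_right hi0 h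
  refine ⟨?_, hi0⟩
  let β := Option {f // f ∈ nontrivFactors F r}
  have hsum : ∀ M : Multiset F[X], (∀ f ∈ M, f ∈ nontrivFactors F r) →
      (M.map natDegree).sum = M.card * i := fun M hM => by
    rw [Multiset.map_congr rfl (fun f hf => hdeg f (hM f hf)), Multiset.map_const',
      Multiset.sum_replicate, smul_eq_mul]
  let toS : FactorData F r n → Sym β (n / i) := fun D =>
    ⟨(D.1.attach.map fun f => (some ⟨f.1, D.2.1 f.1 f.2⟩ : β)) +
      Multiset.replicate (n / i - D.1.card) none, by
      have h := D.2.2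
      rw [hsum _ D.2.1] at h
      have := (Nat.le_div_iff_mul_le hi0).mpr h
      simp
      omega⟩
  let val : β → Option F[X] := fun o => o.map Subtype.val
  let back : Sym β (n / i) → FactorData F r n := fun s =>
    ⟨(s.1.filterMap id).map Subtype.val, by
      have hmem : ∀ f ∈ (s.1.filterMap id).map Subtype.val, f ∈ nontrivFactors F r := by
        intro f hf
        obtain ⟨x, -, rfl⟩ := Multiset.mem_map.mp hf
        exact x.2
      refine ⟨hmem, ?_⟩
      rw [hsum _ hmem]
      refine (Nat.le_div_iff_mul_le hi0).mp ?_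
      rw [Multiset.card_map]
      calc (s.1.filterMap id).card ≤ s.1.card := by
            induction s.1 using Multiset.induction with
            | empty => simp
            | cons a m ih => rcases a with _ | a <;> simp <;> omega
        _ = n / i := s.2⟩
  have h1 : Function.LeftInverse back toS := fun D => by
    apply Subtype.ext
    show (((D.1.attach.map fun f : {x // x ∈ D.1} => (some ⟨f.1, D.2.1 f.1 f.2⟩ : β)) +
      Multiset.replicate (n / i - D.1.card) none).filterMap id).map Subtype.val = D.1
    rw [Multiset.filterMap_add]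
    have hnone : (Multiset.replicate (n / i - D.1.card) (none : β)).filterMap id = 0 := by
      refine Multiset.eq_zero_of_forall_notMem fun x hx => ?_
      obtain ⟨a, ha, hax⟩ := (Multiset.mem_filterMap _ _).mp hx
      rw [Multiset.eq_of_mem_replicate ha] at hax
      simp at hax
    rw [hnone, add_zero, Multiset.filterMap_map, Multiset.map_filterMap]
    show D.1.attach.filterMap (some ∘ Subtype.val) = D.1
    rw [Multiset.filterMap_eq_map, Multiset.attach_map_val]
  have h2 : Function.RightInverse back toS := fun s => by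
    apply Subtype.ext
    show ((((s.1.filterMap id).map Subtype.val).attach.map fun f => (some ⟨f.1, _⟩ : β)) +
      Multiset.replicate (n / i - ((s.1.filterMap id).map Subtype.val).card) none) = s.1
    refine Multiset.ext.mpr fun o => ?_
    rw [Multiset.count_add]
    rcases o with _ | ⟨f, hf⟩
    · rw [Multiset.count_eq_zero.mpr (by simp), zero_add, Multiset.count_replicate_self,
        Multiset.card_map]
      have hs : (s.1.filterMap id).card + s.1.count none = s.1.card := by
        induction s.1 using Multiset.induction with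
        | empty => simp
        | cons a m ih =>
          rcases a with _ | a
          · simp; omega
          · simp; omega
      have := s.2
      omega
    · rw [Multiset.count_replicate, if_neg (by simp), add_zero]
      have e1 : (((s.1.filterMap id).map Subtype.val).attach.map fun g =>
          (g.1 : F[X])).count f = ((s.1.filterMap id).map Subtype.val).count f := by
        rw [Multiset.attach_map_val]
      rw [Multiset.count_map_eq_count' _ _ Subtype.val_injective (⟨f, hf⟩ : {f // f ∈ nontrivFactors F r})]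
        at e1
      have e2 : (s.1.filterMap id).count (⟨f, hf⟩ : {f // f ∈ nontrivFactors F r}) =
          s.1.count (some ⟨f, hf⟩) := by
        induction s.1 using Multiset.induction with
        | empty => simp
        | cons a m ih => rcases a with _ | a <;> simp [Multiset.count_cons, ih]
      rw [← e2, ← e1, Multiset.count_map, Multiset.count_map]
      congr 1
      refine Multiset.filter_congr fun g _ => ?_
      exact ⟨fun h => congrArg Subtype.val (Option.some.inj h), fun h => congrArg some (Subtype.ext h)⟩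
  rw [Nat.card_congr ⟨toS, back, h1, h2⟩, Nat.card_eq_fintype_card, Sym.card_sym_eq_choose,
    Fintype.card_option, Fintype.card_coe, hcard,
    show t + 1 + n / i - 1 = n / i + t by generalize n / i = z; omega]
  exact Nat.choose_symm_add

theorem card_order_r_classes {p r i t : ℕ} [Fact p.Prime] [CharP F p] (hr : r.Prime) (hrp : r ≠ p)
    (hi : i = orderOf (Fintype.card F : ZMod r)) (ht : t * i = r - 1) :
    Nat.card {C : ConjClasses (GL (Fin n) F) //
      ∃ g : GL (Fin n) F, ConjClasses.mk g = C ∧ orderOf g = r} =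
      Nat.choose (n / i + t) t - 1 := by
  classical
  obtain ⟨hcount, -⟩ := card_factorData (F := F) (n := n) (p := p) hr hrp hi ht
  have hsep := X_pow_sub_one_sep (F := F) (p := p) hr hrp
  let T := {C : ConjClasses (GL (Fin n) F) // ∃ g : GL (Fin n) F, ConjClasses.mk g = C ∧ g ^ r = 1}
  have hex : ∀ C : T, ∃ (g : GL (Fin n) F) (ι : Type u) (_ : Fintype ι) (q : ι → F[X]),
      ConjClasses.mk g = C.1 ∧ (∀ i, (q i).Monic ∧ Irreducible (q i) ∧ q i ∣ X ^ r - Polynomial.C 1) ∧
        HasDecomp g q (fun _ => 1) := by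
    rintro ⟨C₁, g, hgC, hg⟩
    obtain ⟨ι, fι, q, hq, hd⟩ := semisimple_decomp hg hsep
    exact ⟨g, ι, fι, q, hgC, hq, hd⟩
  choose g ι fι q hgC hq hd using hex
  let Ms := fun C => (@Finset.univ (ι C) (fι C)).val.map (q C)
  have hMdeg : ∀ C, ((Ms C).map natDegree).sum = n := fun C => by
    have h := @finrank_decomp F _ n (ι C) (fι C) (g C) (q C) (fun _ => 1)
      (fun i => (hq C i).2.1.ne_zero) (hd C)
    simp only [one_mul] at h
    simpa [Ms, Multiset.map_map] using h
  have hΦ : ∀ C, (∀ f ∈ (Ms C).filter (fun f => f ≠ X - Polynomial.C 1), f ∈ nontrivFactors F r) ∧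
      (((Ms C).filter (fun f => f ≠ X - Polynomial.C 1)).map natDegree).sum ≤ n := fun C => by
    refine ⟨fun f hf => ?_, ?_⟩
    · obtain ⟨hf1, hf2⟩ := Multiset.mem_filter.mp hf
      obtain ⟨j, -, rfl⟩ := Multiset.mem_map.mp hf1
      exact (mem_nontrivFactors hr.pos).mpr ⟨(hq C j).1, (hq C j).2.1, (hq C j).2.2, hf2⟩
    · conv_rhs => rw [← hMdeg C, ← Multiset.filter_add_not (fun f => f ≠ X - Polynomial.C 1) (Ms C)]
      rw [Multiset.map_add, Multiset.sum_add]
      exact Nat.le_add_right _ _
  let Φ : T → FactorData F r n := fun C => ⟨(Ms C).filter (fun f => f ≠ X - Polynomial.C 1), hΦ C⟩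
  have hinj : Function.Injective Φ := by
    intro C D h
    have h' : (Ms C).filter (fun f => f ≠ X - Polynomial.C 1) = (Ms D).filter (fun f => f ≠ X - Polynomial.C 1) :=
      congrArg Subtype.val h
    have hone : ∀ M : Multiset F[X],
        ((M.filter fun f => ¬ f ≠ X - Polynomial.C 1).map natDegree).sum = M.count (X - Polynomial.C 1) := fun M => by
      rw [show (M.filter fun f => ¬ f ≠ X - Polynomial.C 1) = M.filter (fun f => f = X - Polynomial.C 1) from
        Multiset.filter_congr fun f _ => not_not, Multiset.filter_eq', Multiset.map_replicate,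
        Multiset.sum_replicate, natDegree_X_sub_C, smul_eq_mul, mul_one]
    have hall : Ms C = Ms D := by
      refine Multiset.ext.mpr fun f => ?_
      by_cases hf : f = X - Polynomial.C 1
      · subst hf
        have e1 := hMdeg C
        have e2 := hMdeg D
        rw [← Multiset.filter_add_not (fun f => f ≠ X - Polynomial.C 1) (Ms C), Multiset.map_add,
          Multiset.sum_add, hone, h'] at e1
        rw [← Multiset.filter_add_not (fun f => f ≠ X - Polynomial.C 1) (Ms D), Multiset.map_add,
          Multiset.sum_add, hone] at e2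
        omega
      · have := congrArg (Multiset.count f) h'
        rwa [Multiset.count_filter_of_pos (p := fun f => f ≠ X - Polynomial.C 1) hf,
          Multiset.count_filter_of_pos (p := fun f => f ≠ X - Polynomial.C 1) hf] at this
    apply Subtype.ext
    rw [← hgC C, ← hgC D, ConjClasses.mk_eq_mk_iff_isConj]
    refine @isConj_of_decomp F _ n (ι C) (ι D) (fι C) (fι D) _ _ _ _ _ _ (hd C) (hd D) ?_
    have h2 := congrArg (Multiset.map fun a => (a, 1)) hall
    simpa [Ms, Multiset.map_map] using h2
  have hrev : ∀ D : FactorData F r n, ∃ g : GL (Fin n) F, g ^ r = 1 ∧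
      ∀ f ∈ nontrivFactors F r, kerCard g f = Fintype.card F ^ (f.natDegree * D.1.count f) := by
    intro D
    let L := (D.1 + Multiset.replicate (n - (D.1.map natDegree).sum) (X - Polynomial.C 1)).toList
    have hL : ∀ j : Fin L.length,
        (L.get j).Monic ∧ Irreducible (L.get j) ∧ L.get j ∣ X ^ r - Polynomial.C 1 := by
      intro j
      have h := Multiset.mem_toList.mp (List.get_mem L j)
      rcases Multiset.mem_add.mp h with h | h
      · obtain ⟨hm, hi', hd', -⟩ := (mem_nontrivFactors hr.pos).mp (D.2.1 _ h)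
        exact ⟨hm, hi', hd'⟩
      · rw [Multiset.eq_of_mem_replicate h]
        exact ⟨monic_X_sub_C 1, irreducible_X_sub_C 1,
          by simpa using sub_dvd_pow_sub_pow (X : F[X]) (Polynomial.C 1) r⟩
    have : ∀ j : Fin L.length, Module.Finite F (Qmod (L.get j ^ 1)) := fun j =>
      finite_qmod (pow_ne_zero _ (hL j).2.1.ne_zero)
    obtain ⟨g, hg⟩ := exists_gl_of_module (F := F) (n := n)
      (M := (j : Fin L.length) → Qmod (L.get j ^ 1)) (by
        rw [Module.finrank_pi_fintype]
        simp only [finrank_qmod, pow_one]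
        rw [← List.sum_ofFn, show (List.ofFn fun j => (L.get j).natDegree) = L.map natDegree by
          conv_rhs => rw [← List.ofFn_get L, List.map_ofFn]
          rfl]
        rw [← Multiset.sum_coe, ← Multiset.map_coe, Multiset.coe_toList, Multiset.map_add,
          Multiset.sum_add, Multiset.map_replicate, Multiset.sum_replicate, natDegree_X_sub_C,
          smul_eq_mul, mul_one]
        have := D.2.2
        omega) fun m hm => by
      funext j
      have h1 := congrFun hm j
      obtain ⟨s, hs⟩ := Ideal.Quotient.mk_surjective (m j)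
      rw [Pi.smul_apply, ← hs, Pi.zero_apply] at h1
      change Ideal.Quotient.mk _ (X * s) = 0 at h1
      rw [Ideal.Quotient.eq_zero_iff_mem, Ideal.mem_span_singleton, pow_one] at h1
      rw [← hs, Pi.zero_apply, Ideal.Quotient.eq_zero_iff_mem, Ideal.mem_span_singleton, pow_one]
      refine ((hL j).2.1.prime.dvd_or_dvd h1).resolve_left fun hX => ?_
      have hx : L.get j = X :=
        eq_of_monic_of_associated (hL j).1 monic_X ((hL j).2.1.associated_of_dvd irreducible_X hX)
      have h2 := (hL j).2.2
      rw [hx, X_dvd_iff] at h2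
      simp [hr.ne_zero.symm] at h2
    refine ⟨g, ?_, fun f hf => ?_⟩
    · have hkill : ∀ v : Gmod g, (X ^ r - Polynomial.C (1 : F)) • v = 0 := fun v => by
        obtain ⟨E⟩ := hg
        apply E.injective
        rw [map_smul, map_zero]
        funext j
        obtain ⟨s, hs⟩ := Ideal.Quotient.mk_surjective (E v j)
        rw [Pi.smul_apply, ← hs]
        show Ideal.Quotient.mk _ ((X ^ r - Polynomial.C 1) * s) = 0
        rw [Ideal.Quotient.eq_zero_iff_mem, Ideal.mem_span_singleton, pow_one]
        exact (hL j).2.2.mul_right s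
      have h := (gmod_smul_eq_zero_iff _).mp hkill
      rw [map_sub, map_pow, aeval_X, map_one, map_one, toEnd,
        ← Matrix.toLin'_pow g.val r, ← Units.val_pow_eq_pow_val, sub_eq_zero] at h
      apply Units.ext
      apply Matrix.toLin'.injective
      rw [h, Units.val_one, Matrix.toLin'_one]
      rfl
    · obtain ⟨hm, hi', -, hne⟩ := (mem_nontrivFactors hr.pos).mp hf
      rw [kerCard_decomp (q := fun j => L.get j) (fun j => ⟨(hL j).1, (hL j).2.1⟩) hg hi' hm,
        Fin.univ_val_map, List.ofFn_get, Multiset.coe_toList, Multiset.count_add,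
        Multiset.count_replicate, if_neg (Ne.symm hne), add_zero]
  choose gD hgD hker using hrev
  have hinj2 : Function.Injective (fun D => (⟨ConjClasses.mk (gD D), gD D, rfl, hgD D⟩ : T)) := by
    intro D D' h
    obtain ⟨E⟩ := equiv_of_isConj (ConjClasses.mk_eq_mk_iff_isConj.mp (congrArg Subtype.val h))
    apply Subtype.ext
    refine Multiset.ext.mpr fun f => ?_
    by_cases hf : f ∈ nontrivFactors F r
    · have h1 : kerCard (gD D) f = kerCard (gD D') f :=
        Nat.card_congr (E.toEquiv.subtypeEquiv fun v => by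
          show f • v = 0 ↔ f • E v = 0
          rw [← map_smul, map_eq_zero_iff _ E.injective])
      rw [hker D f hf, hker D' f hf] at h1
      exact Nat.eq_of_mul_eq_mul_left ((mem_nontrivFactors hr.pos).mp hf).2.1.natDegree_pos
        (Nat.pow_right_injective Fintype.one_lt_card h1)
    · rw [Multiset.count_eq_zero.mpr fun h => hf (D.2.1 f h),
        Multiset.count_eq_zero.mpr fun h => hf (D'.2.1 f h)]
  have hTfin : Finite T := inferInstance
  have : Finite (FactorData F r n) := Finite.of_injective _ hinj2
  have hT : Nat.card T = Nat.choose (n / i + t) t :=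
    hcount ▸ le_antisymm (Nat.card_le_card_of_injective _ hinj)
      (Nat.card_le_card_of_injective _ hinj2)
  rw [← hT]
  letI : Fintype (ConjClasses (GL (Fin n) F)) := Fintype.ofFinite _
  rw [Nat.card_eq_fintype_card, Nat.card_eq_fintype_card, Fintype.card_subtype,
    Fintype.card_subtype, ← Finset.card_erase_of_mem (a := ConjClasses.mk 1)]
  swap
  · simp only [Finset.mem_filter, Finset.mem_univ, true_and]
    exact ⟨1, rfl, one_pow _⟩
  congr 1
  ext K
  simp only [Finset.mem_filter, Finset.mem_univ, true_and, Finset.mem_erase]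
  have : Fact r.Prime := ⟨hr⟩
  constructor
  · rintro ⟨x, rfl, hx⟩
    refine ⟨fun h1 => ?_, x, rfl, hx ▸ pow_orderOf_eq_one x⟩
    have : x = 1 := isConj_one_left.mp (ConjClasses.mk_eq_mk_iff_isConj.mp h1)
    exact hr.ne_one (by rw [← hx, this, orderOf_one])
  · rintro ⟨hne, x, rfl, hx⟩
    exact ⟨x, rfl, orderOf_eq_prime hx fun h1 => hne (by rw [h1])⟩

end CfsgLib.GLClassNumber
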