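import Cfsg.Agent.Lib.GLClassNumber.Unipotent

/-!
Classes of elements of order `p` in `GL_n(q)`, `p` the characteristic.
-/

namespace CfsgLib.GLClassNumber

open Polynomial

universe u

variable {F : Type u} [Field F] {n : ℕ}

lemma exp_le_of_pow_eq_one {p : ℕ} [Fact p.Prime] [CharP F p] {ι : Type*} {g : GL (Fin n) F}
    {e : ι → ℕ} {k : ℕ} (hg : g ^ p ^ k = 1) (h : HasDecomp g (fun _ : ι => rho F) e) (i : ι) :
    e i ≤ p ^ k := by
  classical
  obtain ⟨E⟩ := h
  have h1 := (rho_kills_iff p g k).mpr hg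
    (E.symm (Pi.single i (Ideal.Quotient.mk _ (1 : F[X]))))
  rw [← map_smul, map_eq_zero_iff _ E.symm.injective] at h1
  have h2 := congrFun h1 i
  rw [Pi.smul_apply, Pi.single_eq_same, Pi.zero_apply] at h2
  change Ideal.Quotient.mk _ ((rho F) ^ p ^ k * 1) = 0 at h2
  rw [Ideal.Quotient.eq_zero_iff_mem, Ideal.mem_span_singleton, mul_one] at h2
  exact (pow_dvd_pow_iff (X_sub_C_ne_zero 1) (not_isUnit_X_sub_C 1)).mp h2

lemma pow_eq_one_of_exp_le {p : ℕ} [Fact p.Prime] [CharP F p] {ι : Type*} {g : GL (Fin n) F}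
    {e : ι → ℕ} {k : ℕ} (h : HasDecomp g (fun _ : ι => rho F) e) (he : ∀ i, e i ≤ p ^ k) :
    g ^ p ^ k = 1 := by
  refine (rho_kills_iff p g k).mp fun v => ?_
  obtain ⟨E⟩ := h
  apply E.injective
  rw [map_smul, map_zero]
  funext i
  obtain ⟨r, hr⟩ := Ideal.Quotient.mk_surjective (E v i)
  rw [Pi.smul_apply, ← hr]
  show Ideal.Quotient.mk _ ((rho F) ^ p ^ k * r) = 0
  rw [Ideal.Quotient.eq_zero_iff_mem, Ideal.mem_span_singleton]
  exact (pow_dvd_pow _ (he i)).mul_right r

theorem card_pow_eq_one_classes [Fintype F] (p : ℕ) [Fact p.Prime] [CharP F p] (k : ℕ) :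
    Nat.card {C : ConjClasses (GL (Fin n) F) //
      ∃ g : GL (Fin n) F, ConjClasses.mk g = C ∧ g ^ p ^ k = 1} =
      (Finset.univ.filter (fun μ : Nat.Partition n => ∀ a ∈ μ.parts, a ≤ p ^ k)).card := by
  classical
  rw [← Fintype.card_subtype, ← Nat.card_eq_fintype_card]
  have hex : ∀ C : {C : ConjClasses (GL (Fin n) F) //
      ∃ g : GL (Fin n) F, ConjClasses.mk g = C ∧ g ^ p ^ k = 1},
      ∃ (g : GL (Fin n) F) (ι : Type u) (_ : Fintype ι) (e : ι → ℕ),
        (∀ i, 1 ≤ e i ∧ e i ≤ p ^ k) ∧ HasDecomp g (fun _ : ι => rho F) e ∧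
          ConjClasses.mk g = C.1 := by
    rintro ⟨C, g, hgC, hk⟩
    obtain ⟨ι, fι, e, he, hd⟩ := exists_unipotent_decomp p g hk
    exact ⟨g, ι, fι, e, fun i => ⟨he i, exp_le_of_pow_eq_one hk hd i⟩, hd, hgC⟩
  choose g ι fι e he hd hgC using hex
  let parts := fun C => @expMultiset (ι C) (fι C) (e C)
  have hsum : ∀ C, (parts C).sum = n := fun C => by
    have h := @finrank_decomp F _ n (ι C) (fι C) (g C) _ _
      (fun _ => X_sub_C_ne_zero 1) (hd C)
    simp only [natDegree_rho, mul_one] at h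
    exact h
  let Φ := fun C => (⟨⟨parts C, fun {i} hi => by
    obtain ⟨j, -, rfl⟩ := Multiset.mem_map.mp hi
    exact (he C j).1, hsum C⟩, fun a ha => by
    obtain ⟨j, -, rfl⟩ := Multiset.mem_map.mp ha
    exact (he C j).2⟩ : {μ : Nat.Partition n // ∀ a ∈ μ.parts, a ≤ p ^ k})
  refine le_antisymm (Nat.card_le_card_of_injective Φ ?_) ?_
  · intro C D h
    have h' : parts C = parts D := congrArg (fun μ => μ.1.parts) h
    refine Subtype.ext ?_
    rw [← hgC C, ← hgC D, ConjClasses.mk_eq_mk_iff_isConj]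
    refine @isConj_of_decomp F _ n (ι C) (ι D) (fι C) (fι D) _ _ _ _ _ _ (hd C) (hd D) ?_
    have h2 := congrArg (Multiset.map fun a => (rho F, a)) h'
    simpa [parts, expMultiset, Multiset.map_map] using h2
  · have hex' := fun μ : {μ : Nat.Partition n // ∀ a ∈ μ.parts, a ≤ p ^ k} =>
      exists_gl_of_parts (F := F) μ.1.parts μ.1.parts_sum
    choose gp hgp using hex'
    refine Nat.card_le_card_of_injective
      (fun μ => (⟨ConjClasses.mk (gp μ), gp μ, rfl, pow_eq_one_of_exp_le (hgp μ) fun i =>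
        μ.2 _ (Multiset.mem_toList.mp (List.get_mem _ _))⟩ : {C : ConjClasses (GL (Fin n) F) //
        ∃ g : GL (Fin n) F, ConjClasses.mk g = C ∧ g ^ p ^ k = 1})) ?_
    intro μ ν h
    obtain ⟨E⟩ := equiv_of_isConj (ConjClasses.mk_eq_mk_iff_isConj.mp (congrArg Subtype.val h))
    obtain ⟨Eν⟩ := hgp ν
    have h1 : HasDecomp (gp μ) (fun _ : Fin ν.1.parts.toList.length => rho F)
        (fun i => ν.1.parts.toList.get i) := ⟨E.trans Eν⟩
    have hpos : ∀ (μ : Nat.Partition n) (i : Fin μ.parts.toList.length),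
        1 ≤ μ.parts.toList.get i := fun μ i =>
      μ.parts_pos (Multiset.mem_toList.mp (List.get_mem _ _))
    have h2 := expMultiset_unique (hpos μ.1) (hpos ν.1) (hgp μ) h1
    simp only [expMultiset, Fin.univ_val_map, List.ofFn_get, Multiset.coe_toList] at h2
    exact Subtype.ext (Nat.Partition.ext h2)

theorem card_order_p_classes [Fintype F] (p : ℕ) [Fact p.Prime] [CharP F p] :
    Nat.card {C : ConjClasses (GL (Fin n) F) //
      ∃ g : GL (Fin n) F, ConjClasses.mk g = C ∧ orderOf g = p} =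
      (Finset.univ.filter (fun μ : Nat.Partition n => ∀ a ∈ μ.parts, a ≤ p)).card - 1 := by
  classical
  letI : Fintype (ConjClasses (GL (Fin n) F)) := Fintype.ofFinite _
  have h := card_pow_eq_one_classes (F := F) (n := n) p 1
  simp only [pow_one] at h
  rw [← h, Nat.card_eq_fintype_card, Nat.card_eq_fintype_card, Fintype.card_subtype,
    Fintype.card_subtype, ← Finset.card_erase_of_mem (a := ConjClasses.mk 1)]
  swap
  · simp only [Finset.mem_filter, Finset.mem_univ, true_and]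
    exact ⟨1, rfl, one_pow _⟩
  congr 1
  ext C
  simp only [Finset.mem_filter, Finset.mem_univ, true_and, Finset.mem_erase]
  constructor
  · rintro ⟨g, rfl, hg⟩
    refine ⟨fun h1 => ?_, g, rfl, hg ▸ pow_orderOf_eq_one g⟩
    have : g = 1 := isConj_one_left.mp (ConjClasses.mk_eq_mk_iff_isConj.mp h1)
    exact (Fact.out : p.Prime).ne_one (by rw [← hg, this, orderOf_one])
  · rintro ⟨hne, g, rfl, hg⟩
    exact ⟨g, rfl, orderOf_eq_prime hg fun h1 => hne (by rw [h1])⟩

end CfsgLib.GLClassNumber
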