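import Mathlib

/-!
Arithmetic behind the bound `k(GL_n(q)) ≤ q ^ n`: the coefficient of `t ^ n` in
`∏_{i=1}^L (1 - t ^ i) / (1 - q t ^ i)` is at most `q ^ n (1 - q ^ (-L))` for `n ≥ 1`.
-/

namespace CfsgLib.GLClassNumber

open Finset

/-- Number of monic polynomials of degree `d` over a field with `q` elements with nonzero
constant term. -/
def bCount (q : ℕ) : ℕ → ℕ
  | 0 => 1
  | d + 1 => (q - 1) * q ^ d

/-- Number of weighted tuples with `L` entries. -/
def tupleCount (q : ℕ) : ℕ → ℕ → ℕ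
  | 0, n => if n = 0 then 1 else 0
  | L + 1, n => ∑ d ∈ range (n / (L + 1) + 1), bCount q d * tupleCount q L (n - (L + 1) * d)

lemma tupleCount_at_zero (q L : ℕ) : tupleCount q L 0 = 1 := by
  induction L with
  | zero => simp [tupleCount]
  | succ L ih => simp [tupleCount, bCount, ih]

lemma tupleCount_one (q n : ℕ) : tupleCount q 1 n = bCount q n := by
  rw [tupleCount]
  rw [Finset.sum_eq_single n]
  · simp [tupleCount]
  · intro d hd hne
    simp only [mem_range] at hd
    have : n - (0 + 1) * d ≠ 0 := by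
      simp at hd; omega
    simp only [tupleCount, if_neg this, mul_zero]
  · intro h
    simp at h

private lemma geom_aux (ρ : ℚ) (K : ℕ) :
    (1 - ρ) * ∑ d ∈ range K, ρ ^ (d + 1) = ρ - ρ ^ (K + 1) := by
  induction K with
  | zero => simp
  | succ K ih => rw [sum_range_succ, mul_add, ih]; ring

lemma tupleCount_bound_aux (q : ℕ) (hq : 2 ≤ q) (L : ℕ) : ∀ n : ℕ, 1 ≤ n →
    (tupleCount q (L + 1) n : ℚ) ≤ (q : ℚ) ^ n * (1 - ((q : ℚ)⁻¹) ^ (L + 1)) := by
  have hq1 : 1 ≤ q := by omega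
  have hqQ : (q : ℚ) ≠ 0 := Nat.cast_ne_zero.mpr (by omega)
  have hx0 : (0 : ℚ) ≤ (q : ℚ)⁻¹ := by positivity
  have hx1 : (q : ℚ)⁻¹ ≤ 1 := inv_le_one_of_one_le₀ (by exact_mod_cast hq1)
  induction L with
  | zero =>
    intro n hn
    obtain ⟨k, rfl⟩ : ∃ k, n = k + 1 := ⟨n - 1, by omega⟩
    rw [tupleCount_one, bCount]
    push_cast [Nat.cast_sub hq1]
    rw [pow_succ]
    apply le_of_eq
    field_simp
  | succ L ih =>
    intro n hn
    rw [tupleCount]
    set m := L + 1 + 1 with hm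
    set K := n / m with hK
    set x : ℚ := (q : ℚ)⁻¹ with hx
    set ρ : ℚ := x ^ (L + 1) with hρ
    have hρ0 : 0 ≤ ρ := by positivity
    have hρ1 : ρ ≤ 1 := pow_le_one₀ hx0 hx1
    have hqn : (0 : ℚ) ≤ (q : ℚ) ^ n := by positivity
    have hterm : ∀ d ≤ K, ((bCount q d * tupleCount q (L + 1) (n - m * d) : ℕ) : ℚ) ≤
        (bCount q d : ℚ) * (q : ℚ) ^ (n - m * d) *
          (if d = K then 1 else 1 - ρ) := by
      intro d hd
      push_cast
      rw [mul_assoc]
      refine mul_le_mul_of_nonneg_left ?_ (Nat.cast_nonneg _)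
      by_cases hnd : n - m * d = 0
      · rw [hnd, tupleCount_at_zero, pow_zero, one_mul]
        have : d = K := by
          refine le_antisymm hd ?_
          rw [hK]
          refine Nat.le_of_lt_succ ((Nat.div_lt_iff_lt_mul (by omega)).mpr ?_)
          have : n ≤ m * d := by omega
          have h2 : d.succ * m = m * d + m := by rw [Nat.succ_eq_add_one]; ring
          omega
        simp [this]
      · have h := ih (n - m * d) (by omega)
        refine h.trans ?_
        refine mul_le_mul_of_nonneg_left ?_ (by positivity)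
        split_ifs <;> linarith
    have hb : ∀ d < K, (bCount q (d + 1) : ℚ) * (q : ℚ) ^ (n - m * (d + 1)) =
        (q : ℚ) ^ n * ((1 - x) * ρ ^ (d + 1)) := by
      intro d hd
      have hmd : m * (d + 1) ≤ n :=
        le_trans (Nat.mul_le_mul_left _ hd) (hK ▸ Nat.mul_div_le n m)
      rw [bCount]
      push_cast [Nat.cast_sub hq1]
      have e1 : (q : ℚ) ^ (n - m * (d + 1)) = (q : ℚ) ^ n * x ^ (m * (d + 1)) := by
        rw [hx, pow_sub₀ _ hqQ hmd, inv_pow]
      have e2 : x ^ (m * (d + 1)) = x ^ (d + 1) * ρ ^ (d + 1) := by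
        rw [hρ, ← pow_mul, ← pow_add]; congr 1; rw [hm]; ring
      have e3 : (q : ℚ) ^ d * x ^ (d + 1) = x := by
        rw [pow_succ, ← mul_assoc, ← mul_pow, hx, mul_inv_cancel₀ hqQ, one_pow, one_mul]
      have e4 : (q : ℚ) * x = 1 := mul_inv_cancel₀ hqQ
      rw [e1, e2]
      calc ((q : ℚ) - 1) * (q : ℚ) ^ d * ((q : ℚ) ^ n * (x ^ (d + 1) * ρ ^ (d + 1)))
          = ((q : ℚ) - 1) * ((q : ℚ) ^ d * x ^ (d + 1)) * ((q : ℚ) ^ n * ρ ^ (d + 1)) := by ring
        _ = ((q : ℚ) - 1) * x * ((q : ℚ) ^ n * ρ ^ (d + 1)) := by rw [e3]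
        _ = (q : ℚ) ^ n * ((1 - x) * ρ ^ (d + 1)) := by rw [sub_mul, e4]; ring
    rcases Nat.eq_zero_or_pos K with hK0 | hKpos
    · rw [hK0]
      have h0 : (tupleCount q (L + 1) n : ℚ) ≤ (q : ℚ) ^ n * (1 - ρ) := ih n hn
      have h1 : x ^ m ≤ ρ := by
        rw [hρ]; exact pow_le_pow_of_le_one hx0 hx1 (by omega)
      simp only [zero_add, Finset.sum_range_one, bCount.eq_1, one_mul, Nat.mul_zero, Nat.sub_zero]
      refine h0.trans (mul_le_mul_of_nonneg_left (by linarith) hqn)
    have hsum : (∑ d ∈ range (K + 1), bCount q d * tupleCount q (L + 1) (n - m * d) : ℕ) ≤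
        ∑ d ∈ range (K + 1), (bCount q d : ℚ) * (q : ℚ) ^ (n - m * d) *
          (if d = K then 1 else 1 - ρ) := by
      push_cast
      refine Finset.sum_le_sum fun d hd => ?_
      have := hterm d (by simp at hd; omega)
      push_cast at this
      exact this
    refine hsum.trans ?_
    rw [show x ^ m = x * ρ by rw [hρ, ← pow_succ']]
    obtain ⟨J, hJ⟩ : ∃ J, K = J + 1 := ⟨K - 1, by omega⟩
    rw [hJ, Finset.sum_range_succ', Finset.sum_range_succ]
    simp only [↓reduceIte]
    have h0 : (0 : ℕ) ≠ J + 1 := by omega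
    simp only [bCount.eq_1, Nat.cast_one, one_mul, Nat.mul_zero, Nat.sub_zero, if_neg h0]
    rw [hb J (by omega), mul_one]
    have : ∑ d ∈ range J, (bCount q (d + 1) : ℚ) * (q : ℚ) ^ (n - m * (d + 1)) *
        (if d + 1 = J + 1 then 1 else 1 - ρ) =
        (q : ℚ) ^ n * (1 - x) * ((1 - ρ) * ∑ d ∈ range J, ρ ^ (d + 1)) := by
      rw [Finset.mul_sum, Finset.mul_sum]
      refine Finset.sum_congr rfl fun d hd => ?_
      simp only [mem_range] at hd
      rw [hb d (by omega), if_neg (by omega)]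
      ring
    rw [this, geom_aux]
    apply le_of_eq
    ring

lemma tupleCount_le_pow (q n : ℕ) (hq : 2 ≤ q) : tupleCount q n n ≤ q ^ n := by
  rcases n with _ | n
  · simp [tupleCount]
  · have h := tupleCount_bound_aux q hq n (n + 1) (by omega)
    have h2 : (0 : ℚ) ≤ ((q : ℚ)⁻¹) ^ (n + 1) := by positivity
    have h3 : (tupleCount q (n + 1) (n + 1) : ℚ) ≤ (q : ℚ) ^ (n + 1) :=
      h.trans (mul_le_of_le_one_right (by positivity) (by linarith))
    exact_mod_cast h3

end CfsgLib.GLClassNumber
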