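import Cfsg.Agent.Lib.GLClassNumber.Module
import Cfsg.Agent.Lib.GLClassNumber.Arith

/-!
Class number bounds for `GL_n(q)`.
-/

namespace CfsgLib.GLClassNumber

open Polynomial

universe u

variable {F : Type u} [Field F]

/-- Monic polynomials of degree `d` with nonzero constant term. -/
def PolyD (F : Type u) [Field F] (d : ℕ) : Type u :=
  {p : F[X] // p.Monic ∧ p.natDegree = d ∧ p.coeff 0 ≠ 0}

/-- Tuples `g_1, …, g_L` of monic polynomials, nonzero at `0`, with `∑ i * deg g_i = n`. -/
def Tuple (F : Type u) [Field F] (L n : ℕ) : Type u :=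
  {g : Fin L → F[X] // (∀ i, (g i).Monic ∧ (g i).coeff 0 ≠ 0) ∧
    ∑ i : Fin L, ((i : ℕ) + 1) * (g i).natDegree = n}

noncomputable def polyDEquiv (d : ℕ) :
    PolyD F (d + 1) ≃ {c : Fin (d + 1) → F // c 0 ≠ 0} :=
  (Equiv.subtypeEquivRight fun p => by tauto).trans
    ((Equiv.subtypeSubtypeEquivSubtypeInter (fun p : F[X] => p.Monic ∧ p.natDegree = d + 1)
      (fun p => p.coeff 0 ≠ 0)).symm.trans
    (((monicEquivDegreeLT (R := F) (d + 1)).trans (degreeLTEquiv F (d + 1)).toEquiv).subtypeEquiv
      fun p => by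
        have : (p : F[X]).coeff 0 =
            ((monicEquivDegreeLT (R := F) (d + 1)).trans (degreeLTEquiv F (d + 1)).toEquiv) p 0 := by
          simp [monicEquivDegreeLT, degreeLTEquiv, Polynomial.eraseLead_coeff_of_ne, p.2.2]
        rw [this]))

variable [Fintype F]

lemma card_coeffs_ne (d : ℕ) :
    Nat.card {c : Fin (d + 1) → F // c 0 ≠ 0} =
      (Fintype.card F - 1) * Fintype.card F ^ d := by
  classical
  let e : {c : Fin (d + 1) → F // c 0 ≠ 0} ≃ {x : F // x ≠ 0} × (Fin d → F) :=
    { toFun := fun c => (⟨c.1 0, c.2⟩, Fin.tail c.1)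
      invFun := fun z => ⟨Fin.cons z.1.1 z.2, by simpa using z.1.2⟩
      left_inv := fun c => by simp
      right_inv := fun z => by simp }
  rw [Nat.card_congr e, Nat.card_prod, Nat.card_eq_fintype_card, Fintype.card_subtype_compl,
    Fintype.card_subtype_eq]
  simp

lemma card_polyD (d : ℕ) : Nat.card (PolyD F d) = bCount (Fintype.card F) d := by
  rcases d with _ | d
  · refine Nat.card_eq_one_iff_unique.mpr ⟨⟨fun a b => Subtype.ext ?_⟩, ⟨⟨1, monic_one, by simp⟩⟩⟩
    rw [eq_one_of_monic_natDegree_zero a.2.1 a.2.2.1, eq_one_of_monic_natDegree_zero b.2.1 b.2.2.1]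
  · rw [Nat.card_congr (polyDEquiv d), card_coeffs_ne, bCount]

lemma finite_polyD (d : ℕ) : Finite (PolyD F d) := by
  rcases d with _ | d
  · exact Nat.finite_of_card_ne_zero (by rw [card_polyD, bCount]; omega)
  · exact Finite.of_equiv _ (polyDEquiv d).symm

lemma tuple_card_le (L : ℕ) : ∀ n : ℕ,
    Finite (Tuple F L n) ∧ Nat.card (Tuple F L n) ≤ tupleCount (Fintype.card F) L n := by
  induction L with
  | zero =>
    intro n
    have hs : Subsingleton (Tuple F 0 n) := ⟨fun a b => Subtype.ext (Subsingleton.elim _ _)⟩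
    refine ⟨inferInstance, ?_⟩
    rw [tupleCount]
    split_ifs with h
    · exact Finite.card_le_one_iff_subsingleton.mpr hs
    · have : IsEmpty (Tuple F 0 n) := ⟨fun a => h (by have := a.2.2; simp at this; omega)⟩
      simp
  | succ L ih =>
    intro n
    have hle : ∀ a : Tuple F (L + 1) n,
        (L + 1) * (a.1 (Fin.last L)).natDegree ≤ n ∧
          ∑ i : Fin L, ((i : ℕ) + 1) * (a.1 i.castSucc).natDegree =
            n - (L + 1) * (a.1 (Fin.last L)).natDegree := fun a => by
      have h := a.2.2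
      rw [Fin.sum_univ_castSucc] at h
      simp only [Fin.val_castSucc, Fin.val_last] at h
      omega
    let f : Tuple F (L + 1) n →
        Σ d : Fin (n / (L + 1) + 1), PolyD F d × Tuple F L (n - (L + 1) * d) := fun a =>
      ⟨⟨(a.1 (Fin.last L)).natDegree, Nat.lt_succ_of_le
          ((Nat.le_div_iff_mul_le (Nat.succ_pos L)).mpr (by rw [mul_comm]; exact (hle a).1))⟩,
        ⟨a.1 (Fin.last L), (a.2.1 _).1, rfl, (a.2.1 _).2⟩,
        ⟨fun i => a.1 i.castSucc, fun i => a.2.1 _, (hle a).2⟩⟩
    have hf : Function.Injective f := fun a b h => by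
      have h1 : a.1 (Fin.last L) = b.1 (Fin.last L) := congrArg (fun z => z.2.1.1) h
      have h2 : (fun i : Fin L => a.1 i.castSucc) = fun i => b.1 i.castSucc :=
        congrArg (fun z => z.2.2.1) h
      refine Subtype.ext (funext fun i => ?_)
      refine Fin.lastCases h1 (fun j => congrFun h2 j) i
    have : ∀ d, Finite (PolyD F d) := finite_polyD
    have : ∀ d : Fin (n / (L + 1) + 1), Finite (Tuple F L (n - (L + 1) * d)) := fun d => (ih _).1
    refine ⟨Finite.of_injective f hf, (Nat.card_le_card_of_injective f hf).trans ?_⟩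
    rw [Nat.card_sigma, tupleCount]
    rw [← Fin.sum_univ_eq_sum_range (fun d => bCount (Fintype.card F) d *
      tupleCount (Fintype.card F) L (n - (L + 1) * d))]
    refine Finset.sum_le_sum fun d _ => ?_
    rw [Nat.card_prod, card_polyD]
    exact Nat.mul_le_mul_left _ (ih _).2

/-- The multiset of elementary divisors turns into a tuple. -/
noncomputable def tupleOf (s : Multiset (F[X] × ℕ)) (j : ℕ) : F[X] :=
  ((s.filter fun z => z.2 = j).map Prod.fst).prod

open Classical in
omit [Fintype F] in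
lemma count_eq_of_tupleOf {s : Multiset (F[X] × ℕ)}
    (hs : ∀ z ∈ s, z.1.Monic ∧ Irreducible z.1) (p : F[X]) (j : ℕ) :
    s.count (p, j) =
      Multiset.count p (UniqueFactorizationMonoid.normalizedFactors (tupleOf s j)) := by
  rw [tupleOf, UniqueFactorizationMonoid.normalizedFactors_prod_eq]
  · rw [Multiset.map_map, Multiset.map_congr rfl (g := Prod.fst) fun z hz => by
      show normalize z.1 = z.1
      exact (hs z (Multiset.mem_filter.mp hz).1).1.normalize_eq_self]
    rw [Multiset.count_map, Multiset.filter_filter]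
    rw [← Multiset.countP_eq_card_filter, Multiset.count]
    refine Multiset.countP_congr rfl fun z _ => ?_
    simp [Prod.ext_iff, eq_comm]
  · intro a ha
    obtain ⟨z, hz, rfl⟩ := Multiset.mem_map.mp ha
    exact (hs z (Multiset.mem_filter.mp hz).1).2

lemma card_conjClasses_le (n : ℕ) :
    Nat.card (ConjClasses (GL (Fin n) F)) ≤ Nat.card (Tuple F n n) := by
  classical
  have hex : ∀ C : ConjClasses (GL (Fin n) F), ∃ g, ConjClasses.mk g = C := ConjClasses.exists_rep
  choose rep hrep using hex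
  have hdec := fun C => exists_decomp (rep C)
  choose ι fι p e hpe hdec using hdec
  let s : ConjClasses (GL (Fin n) F) → Multiset (F[X] × ℕ) := fun C =>
    (@Finset.univ (ι C) (fι C)).val.map fun i => (p C i, e C i)
  have hs : ∀ C, ∀ z ∈ s C, z.1.Monic ∧ Irreducible z.1 ∧ z.1.coeff 0 ≠ 0 ∧
      1 ≤ z.2 ∧ z.2 ≤ n := by
    intro C z hz
    obtain ⟨i, -, rfl⟩ := Multiset.mem_map.mp hz
    obtain ⟨hm, hirr, hX, he⟩ := hpe C i
    refine ⟨hm, hirr, fun h0 => hX ?_, he, ?_⟩
    · refine (eq_of_monic_of_associated monic_X hm ?_).symm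
      exact irreducible_X.associated_of_dvd hirr (X_dvd_iff.mpr h0)
    · have hsum := @finrank_decomp F _ n (ι C) (fι C) (rep C) (p C) (e C)
        (fun j => (hpe C j).2.1.ne_zero) (hdec C)
      calc e C i ≤ e C i * (p C i).natDegree :=
            Nat.le_mul_of_pos_right _ hirr.natDegree_pos
        _ ≤ n := hsum ▸ Finset.single_le_sum
            (f := fun j => e C j * (p C j).natDegree) (fun j _ => Nat.zero_le _)
            (@Finset.mem_univ (ι C) (fι C) i)
  have htup : ∀ C, (∀ j : Fin n, (tupleOf (s C) ((j : ℕ) + 1)).Monic ∧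
      (tupleOf (s C) ((j : ℕ) + 1)).coeff 0 ≠ 0) ∧
      ∑ j : Fin n, ((j : ℕ) + 1) * (tupleOf (s C) ((j : ℕ) + 1)).natDegree = n := by
    intro C
    letI : Fintype (ι C) := fι C
    have hsum := finrank_decomp (fun j => (hpe C j).2.1.ne_zero) (hdec C)
    have hprod : ∀ k, tupleOf (s C) k =
        ∏ i ∈ Finset.univ.filter (fun i => e C i = k), p C i := fun k => by
      simp only [tupleOf, s, Multiset.filter_map, Multiset.map_map, Finset.prod, Finset.filter_val]
      congr 2
    refine ⟨fun j => ⟨?_, ?_⟩, ?_⟩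
    · rw [hprod]; exact monic_prod_of_monic _ _ fun i _ => (hpe C i).1
    · rw [hprod, coeff_zero_eq_eval_zero, eval_prod]
      refine Finset.prod_ne_zero_iff.mpr fun i hi => ?_
      have := (hs C (p C i, e C i) (Multiset.mem_map.mpr ⟨i, Finset.mem_univ _, rfl⟩)).2.2.1
      rwa [coeff_zero_eq_eval_zero] at this
    · conv_rhs => rw [← hsum]
      simp only [hprod]
      have hdeg : ∀ k, (∏ i ∈ Finset.univ.filter (fun i => e C i = k), p C i).natDegree =
          ∑ i ∈ Finset.univ.filter (fun i => e C i = k), (p C i).natDegree := fun k =>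
        natDegree_prod_of_monic _ _ fun i _ => (hpe C i).1
      simp only [hdeg, Finset.sum_filter, Finset.mul_sum]
      rw [Finset.sum_comm]
      refine Finset.sum_congr rfl fun i _ => ?_
      obtain ⟨-, -, -, h1, h2⟩ :=
        hs C (p C i, e C i) (Multiset.mem_map.mpr ⟨i, Finset.mem_univ _, rfl⟩)
      rw [Finset.sum_eq_single ⟨e C i - 1, by simp at h1 h2; omega⟩]
      · simp at h1
        simp [show e C i - 1 + 1 = e C i by omega]
      · intro j _ hj
        rw [if_neg, mul_zero]
        intro h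
        exact hj (Fin.ext (by simp [h]))
      · simp
  have hfin : Finite (Tuple F n n) := (tuple_card_le n n).1
  refine Nat.card_le_card_of_injective
    (fun C => (⟨fun j => tupleOf (s C) ((j : ℕ) + 1), htup C⟩ : Tuple F n n)) ?_
  intro C D h
  have hfun : ∀ j : Fin n, tupleOf (s C) ((j : ℕ) + 1) = tupleOf (s D) ((j : ℕ) + 1) :=
    fun j => congrFun (congrArg Subtype.val h) j
  have heq : s C = s D := by
    refine Multiset.ext.mpr fun z => ?_
    obtain ⟨q, k⟩ := z
    by_cases hk : 1 ≤ k ∧ k ≤ n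
    · rw [count_eq_of_tupleOf (fun z hz => ⟨(hs C z hz).1, (hs C z hz).2.1⟩),
        count_eq_of_tupleOf (fun z hz => ⟨(hs D z hz).1, (hs D z hz).2.1⟩)]
      have := hfun ⟨k - 1, by omega⟩
      simp only [show k - 1 + 1 = k by omega] at this
      rw [this]
    · rw [Multiset.count_eq_zero.mpr fun hz => hk (hs C _ hz).2.2.2,
        Multiset.count_eq_zero.mpr fun hz => hk (hs D _ hz).2.2.2]
  rw [← hrep C, ← hrep D, ConjClasses.mk_eq_mk_iff_isConj]
  exact @isConj_of_decomp F _ n (ι C) (ι D) (fι C) (fι D) _ _ _ _ _ _ (hdec C) (hdec D) heq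

lemma card_conjClasses_le_pow (n : ℕ) :
    Nat.card (ConjClasses (GL (Fin n) F)) ≤ Fintype.card F ^ n :=
  (card_conjClasses_le n).trans
    ((tuple_card_le n n).2.trans (tupleCount_le_pow _ _ Fintype.one_lt_card))

lemma le_card_conjClasses (n : ℕ) (hn : 1 ≤ n) :
    Fintype.card F ^ n - Fintype.card F ^ (n - 1) ≤
      Nat.card (ConjClasses (GL (Fin n) F)) := by
  classical
  obtain ⟨d, rfl⟩ : ∃ d, n = d + 1 := ⟨n - 1, by omega⟩
  have hex : ∀ f : PolyD F (d + 1), ∃ g : GL (Fin (d + 1)) F,
      Nonempty (Gmod g ≃ₗ[F[X]] Qmod f.1) := fun f => by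
    have := finite_qmod f.2.1.ne_zero
    refine exists_gl_of_module (by rw [finrank_qmod, f.2.2.1]) fun m hm => ?_
    obtain ⟨m, rfl⟩ := Ideal.Quotient.mk_surjective m
    change Ideal.Quotient.mk _ (X * m) = 0 at hm
    rw [Ideal.Quotient.eq_zero_iff_mem, Ideal.mem_span_singleton] at hm ⊢
    refine IsCoprime.dvd_of_dvd_mul_left ?_ hm
    refine ((irreducible_X (R := F)).coprime_iff_not_dvd.mpr ?_).symm
    rw [X_dvd_iff]
    exact f.2.2.2
  choose g hg using hex
  have hinj : Function.Injective fun f => ConjClasses.mk (g f) := by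
    intro f f' h
    obtain ⟨E⟩ := equiv_of_isConj (ConjClasses.mk_eq_mk_iff_isConj.mp h)
    obtain ⟨E1⟩ := hg f
    obtain ⟨E2⟩ := hg f'
    have h1 := (E1.symm.trans (E.trans E2)).annihilator_eq
    rw [Ideal.annihilator_quotient, Ideal.annihilator_quotient] at h1
    exact Subtype.ext (eq_of_monic_of_associated f.2.1 f'.2.1
      (Ideal.span_singleton_eq_span_singleton.mp h1))
  have := Nat.card_le_card_of_injective _ hinj
  rw [card_polyD, bCount] at this
  refine le_trans (le_of_eq ?_) this
  rw [Nat.add_sub_cancel, pow_succ', Nat.sub_mul, one_mul]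

end CfsgLib.GLClassNumber
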