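import Mathlib

/-!
Conjugacy classes of `GL_n(F)` through the `F[X]`-modules they define.
-/

namespace CfsgLib.GLClassNumber

open Polynomial

universe u

variable {F : Type u} [Field F] {n : ℕ}

/-- The endomorphism of `F ^ n` given by an element of `GL_n(F)`. -/
noncomputable def toEnd (g : GL (Fin n) F) : Module.End F (Fin n → F) := Matrix.toLin' g.val

/-- The `F[X]`-module of an element of `GL_n(F)`. -/
abbrev Gmod (g : GL (Fin n) F) := Module.AEval' (toEnd g)

lemma isConj_of_equiv {g h : GL (Fin n) F} (e : Gmod g ≃ₗ[F[X]] Gmod h) : IsConj g h := by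
  let T : (Fin n → F) ≃ₗ[F] (Fin n → F) :=
    ((Module.AEval'.of (toEnd g)).trans (e.restrictScalars F)).trans
      (Module.AEval'.of (toEnd h)).symm
  have hT : T.toLinearMap ∘ₗ toEnd g = toEnd h ∘ₗ T.toLinearMap := by
    refine LinearMap.ext fun v => ?_
    show (Module.AEval'.of (toEnd h)).symm (e (Module.AEval'.of (toEnd g) (toEnd g v))) = _
    rw [← Module.AEval'.X_smul_of, map_smul, Module.AEval'.of_symm_X_smul]
    rfl
  let P : GL (Fin n) F :=
    ⟨LinearMap.toMatrix' T.toLinearMap, LinearMap.toMatrix' T.symm.toLinearMap,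
      by rw [← LinearMap.toMatrix'_comp]; simp,
      by rw [← LinearMap.toMatrix'_comp]; simp⟩
  refine isConj_iff.mpr ⟨P, ?_⟩
  rw [mul_inv_eq_iff_eq_mul]
  apply Units.ext
  show LinearMap.toMatrix' T.toLinearMap * g.val = h.val * LinearMap.toMatrix' T.toLinearMap
  apply Matrix.toLin'.injective
  simpa [Matrix.toLin'_mul, toEnd] using hT

lemma equiv_of_isConj {g h : GL (Fin n) F} (hc : IsConj g h) :
    Nonempty (Gmod g ≃ₗ[F[X]] Gmod h) := by
  obtain ⟨c, hc⟩ := isConj_iff.mp hc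
  have hc' : c.val * g.val = h.val * c.val := by
    have : c * g = h * c := by rw [← hc]; group
    simpa using congrArg Units.val this
  let T : (Fin n → F) ≃ₗ[F] (Fin n → F) :=
    LinearEquiv.ofLinearMap (Matrix.toLin' c.val) (Matrix.toLin' (c⁻¹ : GL (Fin n) F).val)
      (by rw [← Matrix.toLin'_mul, Units.mul_inv, Matrix.toLin'_one])
      (by rw [← Matrix.toLin'_mul, Units.inv_mul, Matrix.toLin'_one])
  refine ⟨LinearEquiv.ofAEval _ (T.trans (Module.AEval'.of (toEnd h))) fun v => ?_⟩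
  show Module.AEval'.of (toEnd h) (Matrix.toLin' c.val (toEnd g v)) =
    X • Module.AEval'.of (toEnd h) (Matrix.toLin' c.val v)
  rw [Module.AEval'.X_smul_of, toEnd, toEnd, ← Matrix.toLin'_mul_apply, ← Matrix.toLin'_mul_apply,
    hc']

/-- The cyclic module `F[X] / (f)`. -/
abbrev Qmod (f : F[X]) := F[X] ⧸ Ideal.span {f}

lemma finrank_qmod (f : F[X]) : Module.finrank F (Qmod f) = f.natDegree :=
  finrank_quotient_span_eq_natDegree

lemma finite_qmod {f : F[X]} (hf : f ≠ 0) : Module.Finite F (Qmod f) :=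
  Module.Finite.of_basis (AdjoinRoot.powerBasis hf).basis

/-- `g` has the elementary divisors `p i ^ e i`. -/
def HasDecomp {ι : Type*} (g : GL (Fin n) F) (p : ι → F[X]) (e : ι → ℕ) : Prop :=
  Nonempty (Gmod g ≃ₗ[F[X]] ((i : ι) → Qmod (p i ^ e i)))

lemma finrank_decomp {ι : Type*} [Fintype ι] {g : GL (Fin n) F} {p : ι → F[X]} {e : ι → ℕ}
    (hp : ∀ i, p i ≠ 0) (h : HasDecomp g p e) : ∑ i, e i * (p i).natDegree = n := by
  obtain ⟨E⟩ := h
  have h1 := (E.restrictScalars F).finrank_eq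
  have : ∀ i, Module.Finite F (Qmod (p i ^ e i)) := fun i => finite_qmod (pow_ne_zero _ (hp i))
  rw [Module.finrank_pi_fintype, ← (Module.AEval'.of (toEnd g)).finrank_eq,
    Module.finrank_pi F, Fintype.card_fin] at h1
  simp only [finrank_qmod, natDegree_pow] at h1
  exact h1.symm

/-- Every `n`-dimensional `F[X]`-module on which `X` acts injectively comes from `GL_n(F)`. -/
lemma exists_gl_of_module {M : Type*} [AddCommGroup M] [Module F M] [Module F[X] M]
    [IsScalarTower F F[X] M] [Module.Finite F M] (hn : Module.finrank F M = n)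
    (hX : ∀ m : M, (X : F[X]) • m = 0 → m = 0) :
    ∃ g : GL (Fin n) F, Nonempty (Gmod g ≃ₗ[F[X]] M) := by
  let T : (Fin n → F) ≃ₗ[F] M := LinearEquiv.ofFinrankEq _ _ (by simp [hn])
  let φ : Module.End F (Fin n → F) :=
    T.symm.toLinearMap ∘ₗ (Algebra.lsmul F F M (X : F[X])) ∘ₗ T.toLinearMap
  have hφ : Function.Injective φ := by
    refine (injective_iff_map_eq_zero φ).mpr fun v hv => ?_
    have : T.symm ((X : F[X]) • T v) = 0 := hv
    simpa using hX _ ((map_eq_zero_iff _ T.symm.injective).mp this)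
  have hu : IsUnit (LinearMap.toMatrix' φ) := by
    have : IsUnit φ := (Module.End.isUnit_iff φ).mpr
      ⟨hφ, (LinearMap.injective_iff_surjective).mp hφ⟩
    exact this.map (LinearMap.toMatrixAlgEquiv' : Module.End F (Fin n → F) ≃ₐ[F] _)
  refine ⟨hu.unit, ⟨LinearEquiv.ofAEval _ T fun v => ?_⟩⟩
  show T (toEnd hu.unit v) = _
  rw [toEnd, hu.unit_spec, Matrix.toLin'_toMatrix']
  show T (T.symm ((X : F[X]) • T v)) = _
  rw [T.apply_symm_apply]

lemma hasDecomp_subtype {ι : Type*} {g : GL (Fin n) F} {p : ι → F[X]} {e : ι → ℕ}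
    (h : HasDecomp g p e) :
    HasDecomp g (fun i : {i // e i ≠ 0} => p i) (fun i : {i // e i ≠ 0} => e i) := by
  classical
  obtain ⟨E⟩ := h
  have hsub : ∀ i, e i = 0 → Subsingleton (Qmod (p i ^ e i)) := fun i hi => by
    rw [hi, pow_zero]
    exact Submodule.Quotient.subsingleton_iff.mpr Ideal.span_singleton_one
  exact ⟨E.trans
    { toFun := fun f i => f i.1
      map_add' := fun _ _ => rfl
      map_smul' := fun _ _ => rfl
      invFun := fun f i => if hi : e i ≠ 0 then f ⟨i, hi⟩ else 0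
      left_inv := fun f => by
        funext i
        by_cases hi : e i = 0
        · exact @Subsingleton.elim _ (hsub i hi) _ _
        · simp [hi]
      right_inv := fun f => by
        funext i
        simp [i.2] }⟩

lemma isTorsion_gmod (g : GL (Fin n) F) : Module.IsTorsion F[X] (Gmod g) := by
  intro v
  refine ⟨⟨minpoly F (toEnd g), mem_nonZeroDivisors_of_ne_zero
    (minpoly.ne_zero (Algebra.IsIntegral.isIntegral _))⟩, ?_⟩
  show minpoly F (toEnd g) • v = 0
  apply (Module.AEval'.of (toEnd g)).symm.injective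
  rw [Module.AEval.of_symm_smul, minpoly.aeval, map_zero]
  simp

lemma gmod_X_injective (g : GL (Fin n) F) {v : Gmod g} (hv : (X : F[X]) • v = 0) : v = 0 := by
  apply (Module.AEval'.of (toEnd g)).symm.injective
  have h : toEnd g ((Module.AEval'.of (toEnd g)).symm v) = 0 := by
    have := congrArg (Module.AEval'.of (toEnd g)).symm hv
    rw [Module.AEval'.of_symm_X_smul, map_zero] at this
    exact this
  have h2 := congrArg (Matrix.toLin' (g⁻¹ : GL (Fin n) F).val) h
  rw [toEnd, ← Matrix.toLin'_mul_apply, Units.inv_mul, Matrix.toLin'_one, map_zero] at h2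
  rw [map_zero]
  exact h2

lemma decomp_ne_X {ι : Type*} {g : GL (Fin n) F} {p : ι → F[X]} {e : ι → ℕ}
    (h : HasDecomp g p e) (i : ι) (hi : e i ≠ 0) : p i ≠ X := by
  classical
  obtain ⟨E⟩ := h
  intro hX
  let w : (j : ι) → Qmod (p j ^ e j) := Pi.single i (Ideal.Quotient.mk _ (p i ^ (e i - 1)))
  have hz : (X : F[X]) • (Ideal.Quotient.mk (Ideal.span {p i ^ e i}) (p i ^ (e i - 1))) = 0 := by
    show Ideal.Quotient.mk (Ideal.span {p i ^ e i}) (X * p i ^ (e i - 1)) = 0
    rw [Ideal.Quotient.eq_zero_iff_mem, Ideal.mem_span_singleton, hX, ← pow_succ',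
      show e i - 1 + 1 = e i by omega]
  have hw : (X : F[X]) • w = 0 := by
    show (X : F[X]) • Pi.single (M := fun j => Qmod (p j ^ e j)) i _ = 0
    rw [← Pi.single_smul, hz, Pi.single_zero]
  have h1 : E.symm w = 0 := gmod_X_injective g (by rw [← map_smul, hw, map_zero])
  have h2 : w = 0 := (map_eq_zero_iff _ E.symm.injective).mp h1
  have h3 : Ideal.Quotient.mk (Ideal.span {p i ^ e i}) (p i ^ (e i - 1)) = 0 := by
    have := congrFun h2 i
    simpa [w] using this
  rw [Ideal.Quotient.eq_zero_iff_mem, Ideal.mem_span_singleton, hX] at h3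
  have := (pow_dvd_pow_iff (X_ne_zero (R := F)) not_isUnit_X).mp h3
  omega

lemma hasDecomp_congr {ι : Type*} [Fintype ι] {g : GL (Fin n) F} {p p' : ι → F[X]} {e : ι → ℕ}
    (E : Gmod g ≃ₗ[F[X]] DirectSum ι fun i => F[X] ⧸ F[X] ∙ p i ^ e i)
    (h : ∀ i, Associated (p i) (p' i)) : HasDecomp g p' e := by
  classical
  have hi : ∀ i, (F[X] ∙ p i ^ e i) = Ideal.span {p' i ^ e i} := fun i =>
    Ideal.span_singleton_eq_span_singleton.mpr ((h i).pow_pow)
  exact ⟨E.trans ((DirectSum.linearEquivFunOnFintype F[X] ι _).trans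
      (LinearEquiv.piCongrRight fun i => Submodule.quotEquivOfEq _ _ (hi i)))⟩

lemma exists_decomp_aux {ι : Type u} [Fintype ι] (g : GL (Fin n) F) (q : ι → F[X]) (e : ι → ℕ)
    (hq : ∀ i, (q i).Monic ∧ Irreducible (q i)) (h : HasDecomp g q e) :
    ∃ (κ : Type u) (_ : Fintype κ) (p : κ → F[X]) (d : κ → ℕ),
      (∀ i, (p i).Monic ∧ Irreducible (p i) ∧ p i ≠ X ∧ 1 ≤ d i) ∧ HasDecomp g p d := by
  classical
  exact ⟨{i : ι // e i ≠ 0}, inferInstance, fun i => q i.1, fun i => e i.1, fun i =>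
    ⟨(hq i.1).1, (hq i.1).2, decomp_ne_X h i.1 i.2, Nat.one_le_iff_ne_zero.mpr i.2⟩,
    hasDecomp_subtype h⟩

lemma exists_decomp (g : GL (Fin n) F) :
    ∃ (ι : Type u) (_ : Fintype ι) (p : ι → F[X]) (e : ι → ℕ),
      (∀ i, (p i).Monic ∧ Irreducible (p i) ∧ p i ≠ X ∧ 1 ≤ e i) ∧ HasDecomp g p e := by
  classical
  obtain ⟨ι, fι, p, hp, e, ⟨E⟩⟩ := Module.equiv_directSum_of_isTorsion (isTorsion_gmod g)
  obtain ⟨q, hq, hq'⟩ : ∃ q : ι → F[X], (∀ i, Associated (p i) (q i)) ∧
      ∀ i, (q i).Monic ∧ Irreducible (q i) :=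
    ⟨fun i => normalize (p i), fun i => associated_normalize (p i), fun i =>
      ⟨monic_normalize (hp i).ne_zero, (associated_normalize (p i)).irreducible (hp i)⟩⟩
  have h0 : HasDecomp g q e := hasDecomp_congr E hq
  exact exists_decomp_aux g q e hq' h0

/-- Equal elementary divisors give conjugate elements. -/
lemma isConj_of_decomp {ι κ : Type*} [Fintype ι] [Fintype κ] {g h : GL (Fin n) F}
    {p : ι → F[X]} {e : ι → ℕ} {p' : κ → F[X]} {e' : κ → ℕ}
    (hg : HasDecomp g p e) (hh : HasDecomp h p' e')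
    (heq : Finset.univ.val.map (fun i => (p i, e i)) = Finset.univ.val.map (fun i => (p' i, e' i))) :
    IsConj g h := by
  classical
  have hc : ∀ c : F[X] × ℕ, Fintype.card {i // (p i, e i) = c} =
      Fintype.card {i // (p' i, e' i) = c} := fun c => by
    have h2 := congrArg (Multiset.count c) heq
    rw [Multiset.count_map, Multiset.count_map] at h2
    rw [Fintype.card_subtype, Fintype.card_subtype]
    simpa [Finset.card_def, Finset.filter_val, eq_comm] using h2
  let φ : ι ≃ κ := Equiv.ofFiberEquiv fun c => Fintype.equivOfCardEq (hc c)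
  have hφ : ∀ i, (p' (φ i), e' (φ i)) = (p i, e i) := fun i =>
    Equiv.ofFiberEquiv_map (f := fun i => (p i, e i)) (g := fun i => (p' i, e' i)) _ i
  obtain ⟨E⟩ := hg
  obtain ⟨E'⟩ := hh
  have hi : ∀ i, Ideal.span {p i ^ e i} = Ideal.span {p' (φ i) ^ e' (φ i)} := fun i => by
    have h3 := hφ i
    simp only [Prod.mk.injEq] at h3
    rw [h3.1, h3.2]
  let A : ((i : ι) → Qmod (p i ^ e i)) ≃ₗ[F[X]] ((j : κ) → Qmod (p' j ^ e' j)) :=
    (LinearEquiv.piCongrRight fun i => Submodule.quotEquivOfEq _ _ (hi i)).trans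
      (LinearEquiv.piCongrLeft F[X] (fun j => Qmod (p' j ^ e' j)) φ)
  exact isConj_of_equiv ((E.trans A).trans E'.symm)

end CfsgLib.GLClassNumber
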