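import Cfsg.Agent.Lib.GLClassNumber.Unipotent

/-!
Classes of involutions of `PGL_n(q)`, `q` odd.
-/

namespace CfsgLib.GLClassNumber

open Polynomial

universe u

variable {F : Type u} [Field F] {n : ℕ}

/-- The scalar element of `GL_n(F)`. -/
noncomputable abbrev sc (n : ℕ) : Fˣ →* GL (Fin n) F := Matrix.GeneralLinearGroup.scalar (Fin n)

lemma sc_mem_center (c : Fˣ) : sc n c ∈ Subgroup.center (GL (Fin n) F) := by
  rw [Matrix.GeneralLinearGroup.center_eq_range_scalar]
  exact ⟨c, rfl⟩

lemma exists_sc_of_mem_center {g : GL (Fin n) F} (hg : g ∈ Subgroup.center (GL (Fin n) F)) :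
    ∃ c : Fˣ, g = sc n c := by
  rw [Matrix.GeneralLinearGroup.center_eq_range_scalar] at hg
  obtain ⟨c, hc⟩ := hg
  exact ⟨c, hc.symm⟩

lemma sc_comm (c : Fˣ) (g : GL (Fin n) F) : sc n c * g = g * sc n c :=
  (Subgroup.mem_center_iff.mp (sc_mem_center c) g).symm

lemma toEnd_mul (g h : GL (Fin n) F) : toEnd (g * h) = toEnd g * toEnd h := by
  simp [toEnd, Matrix.toLin'_mul, Module.End.mul_eq_comp]

lemma toEnd_sc (c : Fˣ) : toEnd (sc n c) = (c : F) • (1 : Module.End F (Fin n → F)) := by
  refine LinearMap.ext fun v => ?_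
  funext i
  simp [toEnd, Matrix.GeneralLinearGroup.scalar, Matrix.mulVec_diagonal]

/-- The eigenspace of `g` for the eigenvalue `t`. -/
noncomputable def eigen (g : GL (Fin n) F) (t : F) : Submodule F (Fin n → F) :=
  LinearMap.ker (toEnd g - t • 1)

lemma mem_eigen {g : GL (Fin n) F} {t : F} {v : Fin n → F} :
    v ∈ eigen g t ↔ toEnd g v = t • v := by
  simp [eigen, LinearMap.mem_ker, sub_eq_zero]

lemma sq_apply {g : GL (Fin n) F} {c : Fˣ} (hg : g * g = sc n c) (v : Fin n → F) :
    toEnd g (toEnd g v) = (c : F) • v := by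
  have := congrArg toEnd hg
  rw [toEnd_mul, toEnd_sc] at this
  exact LinearMap.congr_fun this v

lemma eigen_isCompl (h2 : (2 : F) ≠ 0) {g : GL (Fin n) F} (hg : g * g = 1) :
    IsCompl (eigen g 1) (eigen g (-1)) := by
  have hsq : ∀ v, toEnd g (toEnd g v) = v := fun v => by
    have := sq_apply (c := 1) (g := g) (by rw [hg, map_one]) v
    simpa using this
  constructor
  · rw [Submodule.disjoint_def]
    intro v h1 h2'
    rw [mem_eigen, one_smul] at h1
    rw [mem_eigen, h1, neg_one_smul] at h2'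
    have : (2 : F) • v = 0 := by rw [two_smul]; exact eq_neg_iff_add_eq_zero.mp h2'
    exact (smul_eq_zero.mp this).resolve_left h2
  · rw [codisjoint_iff, eq_top_iff]
    intro v _
    refine Submodule.mem_sup.mpr ⟨(2 : F)⁻¹ • (v + toEnd g v), ?_, (2 : F)⁻¹ • (v - toEnd g v), ?_, ?_⟩
    · rw [mem_eigen, map_smul, map_add, hsq, one_smul, add_comm]
    · rw [mem_eigen, map_smul, map_sub, hsq, neg_one_smul, ← smul_neg, neg_sub]
    · rw [← smul_add, add_add_sub_cancel, ← two_smul F, inv_smul_smul₀ h2]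

lemma finrank_eigen_add (h2 : (2 : F) ≠ 0) {g : GL (Fin n) F} (hg : g * g = 1) :
    Module.finrank F (eigen g 1) + Module.finrank F (eigen g (-1)) = n := by
  rw [Submodule.finrank_add_eq_of_isCompl (eigen_isCompl h2 hg), Module.finrank_pi F,
    Fintype.card_fin]

lemma isConj_of_toEnd {g h : GL (Fin n) F} (T : (Fin n → F) ≃ₗ[F] (Fin n → F))
    (hT : ∀ v, T (toEnd g v) = toEnd h (T v)) : IsConj g h :=
  isConj_of_equiv <| LinearEquiv.ofAEval _ (T.trans (Module.AEval'.of (toEnd h))) fun v => by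
    show Module.AEval'.of (toEnd h) (T (toEnd g v)) = X • Module.AEval'.of (toEnd h) (T v)
    rw [Module.AEval'.X_smul_of, hT]

lemma isConj_involution (h2 : (2 : F) ≠ 0) {g h : GL (Fin n) F} (hg : g * g = 1) (hh : h * h = 1)
    (hd : Module.finrank F (eigen g (-1)) = Module.finrank F (eigen h (-1))) : IsConj g h := by
  have hd1 : Module.finrank F (eigen g 1) = Module.finrank F (eigen h 1) := by
    have := finrank_eigen_add h2 hg
    have := finrank_eigen_add h2 hh
    omega
  let a := LinearEquiv.ofFinrankEq (eigen g 1) (eigen h 1) hd1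
  let b := LinearEquiv.ofFinrankEq (eigen g (-1)) (eigen h (-1)) hd
  let eg := Submodule.prodEquivOfIsCompl _ _ (eigen_isCompl h2 hg)
  let eh := Submodule.prodEquivOfIsCompl _ _ (eigen_isCompl h2 hh)
  refine isConj_of_toEnd (eg.symm.trans ((a.prodCongr b).trans eh)) fun v => ?_
  obtain ⟨⟨x, y⟩, rfl⟩ := eg.surjective v
  have hv : toEnd g (eg (x, y)) = eg (x, -y) := by
    show toEnd g ((x : Fin n → F) + (y : Fin n → F)) = (x : Fin n → F) + ((-y : eigen g (-1)) : Fin n → F)
    rw [map_add, mem_eigen.mp x.2, mem_eigen.mp y.2, one_smul, neg_one_smul]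
    rfl
  simp only [LinearEquiv.trans_apply, hv, LinearEquiv.symm_apply_apply]
  show ((a x : eigen h 1) : Fin n → F) + ((b (-y) : eigen h (-1)) : Fin n → F) =
    toEnd h (((a x : eigen h 1) : Fin n → F) + ((b y : eigen h (-1)) : Fin n → F))
  rw [map_add, mem_eigen.mp (a x).2, mem_eigen.mp (b y).2, one_smul, neg_one_smul, map_neg]
  rfl

lemma eigen_conj {g h : GL (Fin n) F} (hc : IsConj g h) (t : F) :
    Module.finrank F (eigen g t) = Module.finrank F (eigen h t) := by
  obtain ⟨c, hc⟩ := isConj_iff.mp hc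
  let T : (Fin n → F) ≃ₗ[F] (Fin n → F) :=
    LinearEquiv.ofLinearMap (toEnd c) (toEnd c⁻¹)
      (by rw [← Module.End.mul_eq_comp, ← toEnd_mul, mul_inv_cancel]; simp [toEnd])
      (by rw [← Module.End.mul_eq_comp, ← toEnd_mul, inv_mul_cancel]; simp [toEnd])
  have hT : ∀ v, T (toEnd g v) = toEnd h (T v) := fun v => by
    show toEnd c (toEnd g v) = toEnd h (toEnd c v)
    rw [← hc, ← Module.End.mul_apply, ← toEnd_mul, ← Module.End.mul_apply, ← toEnd_mul,
      inv_mul_cancel_right]
  have hmap : (eigen g t).map T.toLinearMap = eigen h t := by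
    ext w
    rw [Submodule.mem_map_equiv, mem_eigen, mem_eigen, ← T.injective.eq_iff, hT, map_smul,
      T.apply_symm_apply]
  rw [← hmap, LinearEquiv.finrank_map_eq]

lemma eigen_mul_sc (g : GL (Fin n) F) (s : Fˣ) (t : F) :
    eigen (g * sc n s) ((s : F) * t) = eigen g t := by
  ext v
  rw [mem_eigen, mem_eigen, toEnd_mul, toEnd_sc]
  simp [mul_smul]

/-- The diagonal involution with `b` entries `-1`. -/
noncomputable def diagInv (F : Type u) [Field F] (n b : ℕ) : GL (Fin n) F :=
  ⟨Matrix.diagonal fun i => if i.val < b then -1 else 1,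
    Matrix.diagonal fun i => if i.val < b then -1 else 1,
    by rw [Matrix.diagonal_mul_diagonal, ← Matrix.diagonal_one]; congr 1; funext i; split_ifs <;> ring,
    by rw [Matrix.diagonal_mul_diagonal, ← Matrix.diagonal_one]; congr 1; funext i; split_ifs <;> ring⟩

lemma diagInv_sq (b : ℕ) : diagInv F n b * diagInv F n b = 1 := Units.ext (by
  show Matrix.diagonal _ * Matrix.diagonal _ = 1
  rw [Matrix.diagonal_mul_diagonal, ← Matrix.diagonal_one]; congr 1; funext i; split_ifs <;> ring)

lemma finrank_eigen_diagInv (h2 : (2 : F) ≠ 0) {b : ℕ} (hb : b ≤ n) :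
    Module.finrank F (eigen (diagInv F n b) (-1)) = b := by
  have hmem : ∀ v : Fin n → F, v ∈ eigen (diagInv F n b) (-1) ↔ ∀ i, b ≤ i.val → v i = 0 := by
    intro v
    rw [mem_eigen, toEnd, Matrix.toLin'_apply, funext_iff]
    refine forall_congr' fun i => ?_
    rw [show (diagInv F n b).val = Matrix.diagonal fun i : Fin n => if i.val < b then (-1 : F) else 1
      from rfl, Matrix.mulVec_diagonal]
    by_cases hi : i.val < b
    · simp [hi]
    · simp only [if_neg hi, one_mul, neg_smul, one_smul, Pi.smul_apply, Pi.neg_apply,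
        not_lt.mp hi, forall_const]
      constructor
      · intro h
        have : (2 : F) * v i = 0 := by linear_combination h
        exact (mul_eq_zero.mp this).resolve_left h2
      · intro h; simp [h]
  let E : eigen (diagInv F n b) (-1) ≃ₗ[F] (Fin b → F) :=
    { toFun := fun v i => v.1 (Fin.castLE hb i)
      map_add' := fun _ _ => rfl
      map_smul' := fun _ _ => rfl
      invFun := fun f => ⟨fun i => if hi : i.val < b then f ⟨i, hi⟩ else 0,
        (hmem _).mpr fun i hi => dif_neg (not_lt.mpr hi)⟩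
      left_inv := fun v => by
        ext i
        by_cases hi : i.val < b
        · simp [hi]
        · simp [hi, (hmem v.1).mp v.2 i (not_lt.mp hi)]
      right_inv := fun f => by funext i; simp }
  rw [E.finrank_eq, Module.finrank_pi F, Fintype.card_fin]

lemma nonsquare_decomp {c : Fˣ} (hns : ¬ IsSquare (c : F)) {g : GL (Fin n) F}
    (hg : g * g = sc n c) :
    2 * (n / 2) = n ∧ HasDecomp g (fun _ : Fin (n / 2) => X ^ 2 - C (c : F)) (fun _ => 1) := by
  classical
  have hirr : Irreducible (X ^ 2 - C (c : F)) :=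
    X_pow_sub_C_irreducible_of_prime Nat.prime_two fun b hb => hns ⟨b, by rw [← hb, sq]⟩
  have hmon : (X ^ 2 - C (c : F)).Monic := monic_X_pow_sub_C _ two_ne_zero
  obtain ⟨ι, fι, q, e, hq, hd⟩ := exists_decomp g
  have hkill : ∀ v : Gmod g, (X ^ 2 - C (c : F)) • v = 0 := (gmod_smul_eq_zero_iff _).mpr (by
    rw [map_sub, map_pow, aeval_X, aeval_C, sq, ← toEnd_mul, hg, toEnd_sc,
      Algebra.algebraMap_eq_smul_one, sub_self])
  have hqe : ∀ i, q i = X ^ 2 - C (c : F) ∧ e i = 1 := fun i => by
    obtain ⟨E⟩ := hd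
    have h1 := hkill (E.symm (Pi.single i (Ideal.Quotient.mk _ (1 : F[X]))))
    rw [← map_smul, map_eq_zero_iff _ E.symm.injective] at h1
    have h2 := congrFun h1 i
    rw [Pi.smul_apply, Pi.single_eq_same, Pi.zero_apply] at h2
    change Ideal.Quotient.mk _ ((X ^ 2 - C (c : F)) * 1) = 0 at h2
    rw [Ideal.Quotient.eq_zero_iff_mem, Ideal.mem_span_singleton, mul_one] at h2
    obtain ⟨hm, hi, -, he⟩ := hq i
    have hqi : q i = X ^ 2 - C (c : F) := eq_of_monic_of_associated hm hmon
      (hi.associated_of_dvd hirr ((dvd_pow_self _ (by omega)).trans h2))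
    refine ⟨hqi, ?_⟩
    rw [hqi] at h2
    have := (pow_dvd_pow_iff hirr.ne_zero hirr.not_isUnit (n := e i) (m := 1)).mp (by rwa [pow_one])
    omega
  have hq' : q = fun _ => X ^ 2 - C (c : F) := funext fun i => (hqe i).1
  have he' : e = fun _ => 1 := funext fun i => (hqe i).2
  subst hq'
  subst he'
  have hsum := finrank_decomp (fun _ => hirr.ne_zero) hd
  simp only [natDegree_X_pow_sub_C, one_mul, Finset.sum_const, Finset.card_univ, smul_eq_mul] at hsum
  refine ⟨by omega, ?_⟩
  obtain ⟨E⟩ := hd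
  exact ⟨E.trans (LinearEquiv.piCongrLeft F[X] (fun _ : Fin (n / 2) => Qmod ((X ^ 2 - C (c : F)) ^ 1))
    (Fintype.equivFinOfCardEq (show Fintype.card ι = n / 2 by omega)))⟩

lemma isConj_nonsquare {c : Fˣ} (hns : ¬ IsSquare (c : F)) {g h : GL (Fin n) F}
    (hg : g * g = sc n c) (hh : h * h = sc n c) : IsConj g h :=
  isConj_of_decomp (nonsquare_decomp hns hg).2 (nonsquare_decomp hns hh).2 rfl

lemma exists_nonsquare_rep {c : Fˣ} (hns : ¬ IsSquare (c : F)) (hn : 2 * (n / 2) = n) :
    ∃ g : GL (Fin n) F, g * g = sc n c := by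
  have hne : (X ^ 2 - C (c : F)) ≠ 0 := X_pow_sub_C_ne_zero two_pos _
  have := finite_qmod hne
  obtain ⟨g, ⟨E⟩⟩ := exists_gl_of_module (F := F) (n := n)
    (M := Fin (n / 2) → Qmod (X ^ 2 - C (c : F)))
    (by rw [Module.finrank_pi_fintype]; simp [finrank_qmod]; omega) fun m hm => by
      funext i
      have h1 := congrFun hm i
      obtain ⟨r, hr⟩ := Ideal.Quotient.mk_surjective (m i)
      rw [Pi.smul_apply, ← hr, Pi.zero_apply] at h1
      change Ideal.Quotient.mk _ (X * r) = 0 at h1
      rw [Ideal.Quotient.eq_zero_iff_mem, Ideal.mem_span_singleton] at h1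
      rw [← hr, Pi.zero_apply, Ideal.Quotient.eq_zero_iff_mem, Ideal.mem_span_singleton]
      refine IsCoprime.dvd_of_dvd_mul_left ?_ h1
      refine ((irreducible_X (R := F)).coprime_iff_not_dvd.mpr ?_).symm
      rw [X_dvd_iff]
      simp
  refine ⟨g, Units.ext (Matrix.toLin'.injective ?_)⟩
  show toEnd (g * g) = toEnd (sc n c)
  have hkill : ∀ v : Gmod g, (X ^ 2 - C (c : F)) • v = 0 := fun v => by
    apply E.injective
    rw [map_smul, map_zero]
    funext i
    obtain ⟨r, hr⟩ := Ideal.Quotient.mk_surjective (E v i)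
    rw [Pi.smul_apply, ← hr]
    show Ideal.Quotient.mk _ ((X ^ 2 - C (c : F)) * r) = 0
    rw [Ideal.Quotient.eq_zero_iff_mem, Ideal.mem_span_singleton]
    exact dvd_mul_right _ _
  have := (gmod_smul_eq_zero_iff _).mp hkill
  rw [map_sub, map_pow, aeval_X, aeval_C, sub_eq_zero, sq, ← toEnd_mul,
    Algebra.algebraMap_eq_smul_one] at this
  rw [this, toEnd_sc]

local notation "PGLn" => GL (Fin n) F ⧸ Subgroup.center (GL (Fin n) F)

lemma mk_conj_iff {g h : GL (Fin n) F} :
    IsConj (g : PGLn) (h : PGLn) ↔ ∃ s : Fˣ, IsConj g (h * sc n s) := by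
  constructor
  · intro hc
    obtain ⟨k, hk⟩ := isConj_iff.mp hc
    obtain ⟨k, rfl⟩ := QuotientGroup.mk_surjective k
    rw [← QuotientGroup.mk_mul, ← QuotientGroup.mk_inv, ← QuotientGroup.mk_mul] at hk
    obtain ⟨s, hs⟩ := exists_sc_of_mem_center (QuotientGroup.eq.mp hk.symm)
    exact ⟨s, isConj_iff.mpr ⟨k, by rw [← hs, mul_inv_cancel_left]⟩⟩
  · rintro ⟨s, hc⟩
    have := (QuotientGroup.mk' (Subgroup.center (GL (Fin n) F))).map_isConj hc
    rwa [map_mul, QuotientGroup.mk'_apply, QuotientGroup.mk'_apply, QuotientGroup.mk'_apply,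
      (QuotientGroup.eq_one_iff (sc n s)).mpr (sc_mem_center s), mul_one] at this

lemma sq_mul_sc {g : GL (Fin n) F} {c : Fˣ} (hg : g * g = sc n c) (s : Fˣ) :
    (g * sc n s) * (g * sc n s) = sc n (c * s * s) := by
  rw [map_mul, map_mul, ← hg]
  calc g * sc n s * (g * sc n s) = g * (sc n s * g) * sc n s := by group
    _ = g * (g * sc n s) * sc n s := by rw [sc_comm]
    _ = _ := by group

lemma sc_injective (hn : 0 < n) : Function.Injective ⇑(sc (F := F) n) := by
  intro a b h
  have := congrArg (fun g : GL (Fin n) F => g.val ⟨0, hn⟩ ⟨0, hn⟩) h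
  exact Units.ext (by simpa [Matrix.GeneralLinearGroup.scalar] using this)

lemma not_mem_center_diag (h2 : (2 : F) ≠ 0) {b : ℕ} (hb : 1 ≤ b) (hbn : b < n) :
    diagInv F n b ∉ Subgroup.center (GL (Fin n) F) := by
  intro h
  obtain ⟨c, hc⟩ := exists_sc_of_mem_center h
  have h0 := congrArg (fun g : GL (Fin n) F => g.val ⟨0, by omega⟩ ⟨0, by omega⟩) hc
  have h1 := congrArg (fun g : GL (Fin n) F => g.val ⟨b, hbn⟩ ⟨b, hbn⟩) hc
  simp [diagInv, Matrix.GeneralLinearGroup.scalar, show 0 < b by omega] at h0 h1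
  refine h2 ?_
  linear_combination h1 - h0

theorem card_pgl_involution_classes [Fintype F] (hq : Odd (Fintype.card F)) (hn : 2 ≤ n) :
    Nat.card {C : ConjClasses PGLn // ∃ g : PGLn, ConjClasses.mk g = C ∧ orderOf g = 2} =
      n / 2 + (if Even n then 1 else 0) := by
  classical
  have hchar : ringChar F ≠ 2 := by
    intro h
    have : CharP F 2 := ringChar.of_eq h
    obtain ⟨k, -, hk⟩ := FiniteField.card F 2
    rw [hk] at hq
    exact absurd hq (by simp [Nat.even_pow, k.ne_zero])
  have h2 : (2 : F) ≠ 0 := Ring.two_ne_zero hchar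
  obtain ⟨c₀, hc₀⟩ : ∃ c : Fˣ, ¬ IsSquare (c : F) := by
    obtain ⟨a, ha⟩ := FiniteField.exists_nonsquare hchar
    exact ⟨Units.mk0 a (fun h => ha (h ▸ IsSquare.zero)), ha⟩
  have hsq_iff : ∀ c : Fˣ, IsSquare (c : F) ↔ ∃ s : Fˣ, s * s = c := fun c => by
    constructor
    · rintro ⟨r, hr⟩
      exact ⟨Units.mk0 r (fun h => c.ne_zero (by rw [hr, h, mul_zero])), Units.ext hr.symm⟩
    · rintro ⟨s, rfl⟩; exact ⟨s, by simp⟩
  have hord : ∀ g : GL (Fin n) F, orderOf (g : PGLn) = 2 ↔
      g * g ∈ Subgroup.center (GL (Fin n) F) ∧ g ∉ Subgroup.center (GL (Fin n) F) := fun g => by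
    rw [orderOf_eq_iff two_pos]
    constructor
    · rintro ⟨h1, h2'⟩
      refine ⟨?_, fun h => h2' 1 one_lt_two one_pos ?_⟩
      · rw [← QuotientGroup.eq_one_iff, QuotientGroup.mk_mul, ← sq, h1]
      · rw [pow_one]; exact (QuotientGroup.eq_one_iff g).mpr h
    · rintro ⟨h1, h2'⟩
      refine ⟨by rw [sq, ← QuotientGroup.mk_mul]; exact (QuotientGroup.eq_one_iff _).mpr h1, ?_⟩
      intro m hm hm0 h
      obtain rfl : m = 1 := by omega
      rw [pow_one] at h
      exact h2' ((QuotientGroup.eq_one_iff g).mp h)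
  have hR : ∀ _ : PLift (Even n), ∃ g : GL (Fin n) F, g * g = sc n c₀ := fun h =>
    exists_nonsquare_rep hc₀ (Nat.two_mul_div_two_of_even h.down)
  choose R hR using hR
  let rep : Fin (n / 2) ⊕ PLift (Even n) → GL (Fin n) F :=
    Sum.elim (fun b => diagInv F n (b.val + 1)) R
  have hrep : ∀ i, rep i * rep i ∈ Subgroup.center (GL (Fin n) F) ∧
      rep i ∉ Subgroup.center (GL (Fin n) F) := by
    rintro (b | h)
    · exact ⟨by rw [show rep (Sum.inl b) = diagInv F n (b.val + 1) from rfl, diagInv_sq]; exact one_mem _,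
        not_mem_center_diag h2 (by omega) (by omega)⟩
    · refine ⟨by rw [show rep (Sum.inr h) = R h from rfl, hR]; exact sc_mem_center _, fun hc => ?_⟩
      obtain ⟨s, hs⟩ := exists_sc_of_mem_center hc
      have := hR h
      rw [show R h = sc n s from hs, ← map_mul] at this
      exact hc₀ ((hsq_iff c₀).mpr ⟨s, sc_injective (by omega) this⟩)
  have hbij : Function.Bijective (fun i => (⟨ConjClasses.mk ((rep i : GL (Fin n) F) : PGLn), _, rfl,
      (hord _).mpr (hrep i)⟩ :
        {C : ConjClasses PGLn // ∃ g : PGLn, ConjClasses.mk g = C ∧ orderOf g = 2})) := by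
    refine ⟨fun i j h => ?_, fun C => ?_⟩
    · obtain ⟨s, hs⟩ :=
        mk_conj_iff.mp (ConjClasses.mk_eq_mk_iff_isConj.mp (congrArg Subtype.val h))
      rcases i with b | hi <;> rcases j with b' | hj
      · simp only [rep, Sum.elim_inl] at hs
        have hss : s * s = 1 := by
          obtain ⟨k, hk⟩ := isConj_iff.mp hs
          have h1 : k * (diagInv F n (b.val + 1) * diagInv F n (b.val + 1)) * k⁻¹ =
              (diagInv F n (b'.val + 1) * sc n s) * (diagInv F n (b'.val + 1) * sc n s) := by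
            rw [← hk]; group
          rw [diagInv_sq, sq_mul_sc (c := 1) (by rw [diagInv_sq, map_one]), mul_one,
            mul_inv_cancel] at h1
          exact sc_injective (n := n) (by omega) (by rw [map_one, h1, one_mul])
        have hs1 : (s : F) = 1 ∨ (s : F) = -1 :=
          mul_self_eq_one_iff.mp (by rw [← Units.val_mul, hss, Units.val_one])
        have e1 := finrank_eigen_diagInv h2 (n := n) (b := b.val + 1) (by omega)
        have e2 := finrank_eigen_diagInv h2 (n := n) (b := b'.val + 1) (by omega)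
        have e4 := finrank_eigen_add h2 (diagInv_sq (F := F) (n := n) (b'.val + 1))
        have e5 := eigen_conj hs (-1)
        rcases hs1 with hs1 | hs1
        · have h3 := eigen_mul_sc (diagInv F n (b'.val + 1)) s (-1)
          rw [hs1, one_mul] at h3
          rw [h3] at e5
          exact congrArg Sum.inl (Fin.ext (by omega))
        · have h3 := eigen_mul_sc (diagInv F n (b'.val + 1)) s 1
          rw [hs1, mul_one] at h3
          rw [h3] at e5
          exact congrArg Sum.inl (Fin.ext (by omega))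
      · exfalso
        simp only [rep, Sum.elim_inl, Sum.elim_inr] at hs
        obtain ⟨k, hk⟩ := isConj_iff.mp hs
        have h1 : k * (diagInv F n (b.val + 1) * diagInv F n (b.val + 1)) * k⁻¹ =
            (R hj * sc n s) * (R hj * sc n s) := by rw [← hk]; group
        rw [diagInv_sq, sq_mul_sc (hR hj), mul_one, mul_inv_cancel] at h1
        have h4 : c₀ * s * s = 1 := sc_injective (n := n) (by omega) (by rw [map_one, h1])
        exact hc₀ ((hsq_iff c₀).mpr ⟨s⁻¹, by
          rw [← mul_inv, eq_comm, ← mul_eq_one_iff_eq_inv, ← mul_assoc, h4]⟩)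
      · exfalso
        simp only [rep, Sum.elim_inl, Sum.elim_inr] at hs
        obtain ⟨k, hk⟩ := isConj_iff.mp hs
        have h1 : k * (R hi * R hi) * k⁻¹ =
            (diagInv F n (b'.val + 1) * sc n s) * (diagInv F n (b'.val + 1) * sc n s) := by
          rw [← hk]; group
        rw [hR, sq_mul_sc (c := 1) (by rw [diagInv_sq, map_one]), ← sc_comm,
          mul_inv_cancel_right] at h1
        exact hc₀ ((hsq_iff c₀).mpr ⟨s, by
          rw [sc_injective (n := n) (by omega) h1, one_mul]⟩)
      · exact congrArg Sum.inr (Subsingleton.elim hi hj)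
    · obtain ⟨C, g, hgC, hg⟩ := C
      obtain ⟨g, rfl⟩ := QuotientGroup.mk_surjective g
      obtain ⟨hgg, hgc⟩ := (hord g).mp hg
      obtain ⟨c, hc⟩ := exists_sc_of_mem_center hgg
      by_cases hcs : IsSquare (c : F)
      · obtain ⟨s, hs⟩ := (hsq_iff c).mp hcs
        have hg' : (g * sc n s⁻¹) * (g * sc n s⁻¹) = 1 := by
          rw [sq_mul_sc hc, show c * s⁻¹ * s⁻¹ = 1 by rw [← hs]; group, map_one]
        have hneg : (g * sc n (-s⁻¹)) * (g * sc n (-s⁻¹)) = 1 := by
          rw [sq_mul_sc hc, show c * -s⁻¹ * -s⁻¹ = 1 by rw [mul_assoc, neg_mul_neg, ← hs]; group, map_one]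
        have hsum := finrank_eigen_add h2 hg'
        set b := Module.finrank F (eigen (g * sc n s⁻¹) (-1)) with hb
        have hgneg : Module.finrank F (eigen (g * sc n (-s⁻¹)) (-1)) = n - b := by
          have h3 := eigen_mul_sc (g * sc n s⁻¹) (-1 : Fˣ) 1
          rw [mul_assoc, ← map_mul, mul_neg, mul_one] at h3
          simp only [Units.val_neg, Units.val_one, mul_one] at h3
          rw [h3]; omega
        have hpos : ∀ (u : Fˣ), (g * sc n u) * (g * sc n u) = 1 →
            1 ≤ Module.finrank F (eigen (g * sc n u) (-1)) := fun u hu => by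
          by_contra hlt
          have h0 : IsConj (g * sc n u) 1 := isConj_involution h2 hu (one_mul 1) (by
            have h1 : diagInv F n 0 = 1 := Units.ext (by simp [diagInv, Matrix.diagonal_one])
            rw [← h1, finrank_eigen_diagInv h2 (Nat.zero_le _)]; omega)
          rw [isConj_one_left] at h0
          exact hgc (eq_inv_of_mul_eq_one_left h0 ▸ inv_mem (sc_mem_center u))
        have hb1 := hpos _ hg'
        have hb2 := hpos _ hneg
        rw [← hb] at hb1
        rw [hgneg] at hb2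
        by_cases hbn : b ≤ n / 2
        · refine ⟨Sum.inl ⟨b - 1, by omega⟩, Subtype.ext ?_⟩
          show ConjClasses.mk ((diagInv F n (b - 1 + 1) : GL (Fin n) F) : PGLn) = C
          rw [← hgC, ConjClasses.mk_eq_mk_iff_isConj, mk_conj_iff]
          refine ⟨s⁻¹, isConj_involution h2 (diagInv_sq _) hg' ?_⟩
          rw [finrank_eigen_diagInv h2 (by omega)]; omega
        · refine ⟨Sum.inl ⟨n - b - 1, by omega⟩, Subtype.ext ?_⟩
          show ConjClasses.mk ((diagInv F n (n - b - 1 + 1) : GL (Fin n) F) : PGLn) = C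
          rw [← hgC, ConjClasses.mk_eq_mk_iff_isConj, mk_conj_iff]
          refine ⟨-s⁻¹, isConj_involution h2 (diagInv_sq _) hneg ?_⟩
          rw [finrank_eigen_diagInv h2 (by omega)]; omega
      · have heven : Even n := ⟨n / 2, by have := (nonsquare_decomp hcs hc).1; omega⟩
        obtain ⟨t, ht⟩ : IsSquare ((c₀ : F) * (c : F)⁻¹) := by
          have hcn := (FiniteField.unit_isSquare_iff hchar (c₀ * c⁻¹)).mpr
          rcases FiniteField.pow_dichotomy hchar c₀.ne_zero with h | h
          · exact absurd ((FiniteField.isSquare_iff hchar c₀.ne_zero).mpr h) hc₀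
          rcases FiniteField.pow_dichotomy hchar c.ne_zero with h' | h'
          · exact absurd ((FiniteField.isSquare_iff hchar c.ne_zero).mpr h') hcs
          refine (FiniteField.isSquare_iff hchar (mul_ne_zero c₀.ne_zero (inv_ne_zero c.ne_zero))).mpr ?_
          rw [mul_pow, inv_pow, h, h']; norm_num
        have ht0 : t ≠ 0 := fun h => by simp [h, c.ne_zero, c₀.ne_zero] at ht
        refine ⟨Sum.inr ⟨heven⟩, Subtype.ext ?_⟩
        show ConjClasses.mk ((R ⟨heven⟩ : GL (Fin n) F) : PGLn) = C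
        rw [← hgC, ConjClasses.mk_eq_mk_iff_isConj, mk_conj_iff]
        refine ⟨Units.mk0 t ht0, isConj_nonsquare hc₀ (hR _) ?_⟩
        rw [sq_mul_sc hc]
        congr 1
        apply Units.ext
        simp only [Units.val_mul, Units.val_mk0]
        rw [mul_assoc, ← ht, mul_comm (c₀ : F), ← mul_assoc, mul_inv_cancel₀ c.ne_zero, one_mul]
  rw [← Nat.card_eq_of_bijective _ hbij, Nat.card_sum, Nat.card_fin]
  congr 1
  split_ifs with h
  · exact Nat.card_eq_one_iff_unique.mpr ⟨⟨fun a b => Subsingleton.elim a b⟩, ⟨⟨h⟩⟩⟩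
  · have : IsEmpty (PLift (Even n)) := ⟨fun a => h a.down⟩
    simp

end CfsgLib.GLClassNumber
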