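import Cfsg.Agent.Lib.GLClassNumber.OrderR
import Cfsg.Agent.Lib.GLClassNumber.PGLInvolution

/-!
Classes of elements of prime order `r ∣ q - 1` in `PGL_n(q)`.
-/

namespace CfsgLib.GLClassNumber

open Polynomial

universe u

variable {F : Type u} [Field F] [Fintype F] {n r : ℕ}

/-- The `r`-th roots of unity. -/
abbrev Rts (F : Type u) [Field F] (r : ℕ) : Subgroup Fˣ := (powMonoidHom r : Fˣ →* Fˣ).ker

omit [Fintype F] in
lemma rts_pow (ζ : Rts F r) : ((ζ : Fˣ) : F) ^ r = 1 := by
  have h : (ζ : Fˣ) ^ r = 1 := ζ.2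
  rw [← Units.val_pow_eq_pow_val, h, Units.val_one]

omit [Fintype F] in
lemma rts_val_injective : Function.Injective fun ζ : Rts F r => ((ζ : Fˣ) : F) :=
  fun _ _ h => Subtype.ext (Units.ext h)

lemma card_rts (hrq : r ∣ Fintype.card F - 1) : Nat.card (Rts F r) = r := by
  classical
  rw [IsCyclic.card_powMonoidHom_ker, Nat.card_eq_fintype_card, Fintype.card_units]
  exact Nat.gcd_eq_right hrq

lemma kerCard_X_sub_C (g : GL (Fin n) F) (t : F) :
    kerCard g (X - C t) = Fintype.card F ^ Module.finrank F (eigen g t) := by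
  rw [← Nat.card_eq_fintype_card, ← Module.natCard_eq_pow_finrank]
  refine Nat.card_congr ((Module.AEval'.of (toEnd g)).symm.toEquiv.subtypeEquiv fun v => ?_)
  show (X - C t) • v = 0 ↔ (Module.AEval'.of (toEnd g)).symm v ∈ eigen g t
  rw [mem_eigen, ← (Module.AEval'.of (toEnd g)).symm.injective.eq_iff, Module.AEval.of_symm_smul,
    map_sub, aeval_X, aeval_C, Algebra.algebraMap_eq_smul_one, map_zero]
  exact sub_eq_zero

lemma split_decomp (hr : r.Prime) (hrq : r ∣ Fintype.card F - 1) {g : GL (Fin n) F}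
    (hg : g ^ r = 1) :
    ∃ (ι : Type u) (_ : Fintype ι) (z : ι → Rts F r),
      HasDecomp g (fun i => X - C ((z i : Fˣ) : F)) (fun _ => 1) := by
  obtain ⟨p, hp⟩ := CharP.exists F
  have : Fact p.Prime := ⟨CharP.char_is_prime F p⟩
  obtain ⟨k, -, hk⟩ := FiniteField.card F p
  have hrp : r ≠ p := by
    rintro rfl
    have h1 : r ∣ Fintype.card F := hk ▸ dvd_pow_self r k.ne_zero
    have h2 := Nat.dvd_sub h1 hrq
    rw [Nat.sub_sub_self Fintype.card_pos] at h2
    exact hr.not_dvd_one h2
  obtain ⟨ι, fι, q, hq, hd⟩ := semisimple_decomp hg (X_pow_sub_one_sep (p := p) hr hrp)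
  have hroot : ∀ i, ∃ z : Rts F r, q i = X - C ((z : Fˣ) : F) := by
    intro i
    obtain ⟨hm, hirr, hdvd⟩ := hq i
    by_cases h1 : q i = X - C 1
    · exact ⟨1, by simpa using h1⟩
    · have hdeg := natDegree_factor (p := p) hr hrp hirr hm hdvd h1
      have hord : orderOf (Fintype.card F : ZMod r) = 1 := by
        rw [orderOf_eq_one_iff, ← Nat.cast_one, ZMod.natCast_eq_natCast_iff]
        exact ((Nat.modEq_iff_dvd' Fintype.card_pos).mpr hrq).symm
      rw [hord] at hdeg
      have hqa : q i = X - C (-(q i).coeff 0) := by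
        conv_lhs => rw [hm.eq_X_add_C hdeg]
        simp
      generalize -(q i).coeff 0 = a at hqa
      have ha : a ^ r = 1 := by
        have h2 : (X ^ r - C (1 : F)).eval a = 0 := by
          obtain ⟨d, hd'⟩ := hdvd
          rw [hd', eval_mul, hqa]
          simp
        simpa [sub_eq_zero] using h2
      have ha0 : a ≠ 0 := fun h => by simp [h, zero_pow hr.ne_zero] at ha
      exact ⟨⟨Units.mk0 a ha0, MonoidHom.mem_ker.mpr (Units.ext (by simpa using ha))⟩, hqa⟩
  choose z hz using hroot
  refine ⟨ι, fι, z, ?_⟩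
  obtain rfl : q = fun i => X - C ((z i : Fˣ) : F) := funext hz
  exact hd

lemma finrank_eigen_decomp {ι : Type u} [Fintype ι] [DecidableEq (Rts F r)] {g : GL (Fin n) F}
    {z : ι → Rts F r} (h : HasDecomp g (fun i => X - C ((z i : Fˣ) : F)) (fun _ => 1))
    (ζ : Rts F r) :
    Module.finrank F (eigen g ((ζ : Fˣ) : F)) = (Finset.univ.filter fun i => z i = ζ).card := by
  classical
  have h1 := kerCard_decomp (q := fun i => X - C ((z i : Fˣ) : F))
    (fun i => ⟨monic_X_sub_C _, irreducible_X_sub_C _⟩) h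
    (irreducible_X_sub_C ((ζ : Fˣ) : F)) (monic_X_sub_C _)
  rw [kerCard_X_sub_C, natDegree_X_sub_C, one_mul] at h1
  rw [Nat.pow_right_injective Fintype.one_lt_card h1, Multiset.count_map, Finset.card_def,
    Finset.filter_val]
  congr 1
  refine Multiset.filter_congr fun i _ => ?_
  constructor
  · intro h2; exact (rts_val_injective (C_injective (sub_right_injective h2))).symm
  · intro h2; rw [h2]

lemma sum_finrank_eigen (hr : r.Prime) (hrq : r ∣ Fintype.card F - 1) {g : GL (Fin n) F}
    (hg : g ^ r = 1) [Fintype (Rts F r)] :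
    ∑ ζ : Rts F r, Module.finrank F (eigen g ((ζ : Fˣ) : F)) = n := by
  classical
  obtain ⟨ι, fι, z, hd⟩ := split_decomp hr hrq hg
  simp only [finrank_eigen_decomp hd]
  rw [← Finset.card_eq_sum_card_fiberwise fun i _ => Finset.mem_univ (z i), Finset.card_univ]
  have h := finrank_decomp (fun i => X_sub_C_ne_zero _) hd
  simpa using h

lemma isConj_split (hr : r.Prime) (hrq : r ∣ Fintype.card F - 1) {g h : GL (Fin n) F}
    (hg : g ^ r = 1) (hh : h ^ r = 1)
    (heq : ∀ ζ : Rts F r, Module.finrank F (eigen g ((ζ : Fˣ) : F)) =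
      Module.finrank F (eigen h ((ζ : Fˣ) : F))) : IsConj g h := by
  classical
  obtain ⟨ι, fι, z, hd⟩ := split_decomp hr hrq hg
  obtain ⟨κ, fκ, w, hd'⟩ := split_decomp hr hrq hh
  refine isConj_of_decomp hd hd' ?_
  have h1 : Finset.univ.val.map z = Finset.univ.val.map w := Multiset.ext.mpr fun ζ => by
    have := heq ζ
    rw [finrank_eigen_decomp hd, finrank_eigen_decomp hd'] at this
    simpa [Multiset.count_map, Finset.card_def, Finset.filter_val, eq_comm] using this
  have h2 := congrArg (Multiset.map fun ζ : Rts F r => (X - C ((ζ : Fˣ) : F), 1)) h1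
  simpa [Multiset.map_map] using h2

/-- The diagonal element with entries `f`. -/
noncomputable def diagRts (f : Fin n → Rts F r) : GL (Fin n) F :=
  ⟨Matrix.diagonal fun i => ((f i : Fˣ) : F), Matrix.diagonal fun i => (((f i : Fˣ)⁻¹ : Fˣ) : F),
    by rw [Matrix.diagonal_mul_diagonal, ← Matrix.diagonal_one]; simp,
    by rw [Matrix.diagonal_mul_diagonal, ← Matrix.diagonal_one]; simp⟩

omit [Fintype F] in
lemma diagRts_pow (f : Fin n → Rts F r) : diagRts f ^ r = 1 := by
  apply Units.ext
  rw [Units.val_pow_eq_pow_val, show (diagRts f).val = Matrix.diagonal fun i => ((f i : Fˣ) : F)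
    from rfl, Matrix.diagonal_pow, Units.val_one, ← Matrix.diagonal_one]
  congr 1
  funext i
  exact rts_pow (f i)

omit [Fintype F] in
lemma finrank_eigen_diagRts [DecidableEq (Rts F r)] (f : Fin n → Rts F r) (ζ : Rts F r) :
    Module.finrank F (eigen (diagRts f) ((ζ : Fˣ) : F)) = Fintype.card {i // f i = ζ} := by
  have hmem : ∀ v : Fin n → F, v ∈ eigen (diagRts f) ((ζ : Fˣ) : F) ↔ ∀ i, f i ≠ ζ → v i = 0 := by
    intro v
    rw [mem_eigen, toEnd, Matrix.toLin'_apply, funext_iff]
    refine forall_congr' fun i => ?_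
    rw [show (diagRts f).val = Matrix.diagonal fun i => ((f i : Fˣ) : F) from rfl,
      Matrix.mulVec_diagonal, Pi.smul_apply, smul_eq_mul, ← sub_eq_zero, ← sub_mul, mul_eq_zero,
      sub_eq_zero]
    constructor
    · intro h hne
      exact h.resolve_left fun h1 => hne (rts_val_injective h1)
    · intro h
      by_cases hi : f i = ζ
      · exact Or.inl (by rw [hi])
      · exact Or.inr (h hi)
  let E : eigen (diagRts f) ((ζ : Fˣ) : F) ≃ₗ[F] ({i // f i = ζ} → F) :=
    { toFun := fun v i => v.1 i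
      map_add' := fun _ _ => rfl
      map_smul' := fun _ _ => rfl
      invFun := fun w => ⟨fun i => if hi : f i = ζ then w ⟨i, hi⟩ else 0,
        (hmem _).mpr fun i hi => dif_neg hi⟩
      left_inv := fun v => by
        ext i
        by_cases hi : f i = ζ
        · simp [hi]
        · simp [hi, (hmem v.1).mp v.2 i hi]
      right_inv := fun w => by funext i; simp [i.2] }
  rw [E.finrank_eq, Module.finrank_pi F]

lemma exists_mult (m : Rts F r → ℕ) [Fintype (Rts F r)] (hm : ∑ ζ, m ζ = n) :
    ∃ g : GL (Fin n) F, g ^ r = 1 ∧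
      ∀ ζ : Rts F r, Module.finrank F (eigen g ((ζ : Fˣ) : F)) = m ζ := by
  classical
  let e : (Σ ζ : Rts F r, Fin (m ζ)) ≃ Fin n := Fintype.equivFinOfCardEq (by simp [hm])
  refine ⟨diagRts fun i => (e.symm i).1, diagRts_pow _, fun ζ => ?_⟩
  rw [finrank_eigen_diagRts, ← Fintype.card_fin (m ζ)]
  exact Fintype.card_congr
    ((e.symm.subtypeEquiv (q := fun s : Σ ζ : Rts F r, Fin (m ζ) => s.1 = ζ) fun _ => Iff.rfl).trans
      (Equiv.sigmaSubtype ζ))

lemma pow_decomp (hr : r.Prime) {c : Fˣ} (hnp : ∀ s : F, s ^ r ≠ (c : F)) {g : GL (Fin n) F}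
    (hg : g ^ r = sc n c) :
    r * (n / r) = n ∧ HasDecomp g (fun _ : Fin (n / r) => X ^ r - C (c : F)) (fun _ => 1) := by
  classical
  have hirr : Irreducible (X ^ r - C (c : F)) :=
    X_pow_sub_C_irreducible_of_prime hr fun b hb => hnp b hb
  have hmon : (X ^ r - C (c : F)).Monic := monic_X_pow_sub_C _ hr.ne_zero
  obtain ⟨ι, fι, q, e, hq, hd⟩ := exists_decomp g
  have hkill : ∀ v : Gmod g, (X ^ r - C (c : F)) • v = 0 := (gmod_smul_eq_zero_iff _).mpr (by
    rw [map_sub, map_pow, aeval_X, aeval_C, toEnd, ← Matrix.toLin'_pow g.val r,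
      ← Units.val_pow_eq_pow_val, hg, Algebra.algebraMap_eq_smul_one, ← toEnd_sc, toEnd, sub_self])
  have hqe : ∀ i, q i = X ^ r - C (c : F) ∧ e i = 1 := fun i => by
    obtain ⟨E⟩ := hd
    have h1 := hkill (E.symm (Pi.single i (Ideal.Quotient.mk _ (1 : F[X]))))
    rw [← map_smul, map_eq_zero_iff _ E.symm.injective] at h1
    have h2 := congrFun h1 i
    rw [Pi.smul_apply, Pi.single_eq_same, Pi.zero_apply] at h2
    change Ideal.Quotient.mk _ ((X ^ r - C (c : F)) * 1) = 0 at h2
    rw [Ideal.Quotient.eq_zero_iff_mem, Ideal.mem_span_singleton, mul_one] at h2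
    obtain ⟨hm, hi, -, he⟩ := hq i
    have hqi : q i = X ^ r - C (c : F) := eq_of_monic_of_associated hm hmon
      (hi.associated_of_dvd hirr ((dvd_pow_self _ (by omega)).trans h2))
    refine ⟨hqi, ?_⟩
    rw [hqi] at h2
    have := (pow_dvd_pow_iff hirr.ne_zero hirr.not_isUnit (n := e i) (m := 1)).mp (by rwa [pow_one])
    omega
  obtain rfl : q = fun _ => X ^ r - C (c : F) := funext fun i => (hqe i).1
  obtain rfl : e = fun _ => 1 := funext fun i => (hqe i).2
  have hsum := finrank_decomp (fun _ => hirr.ne_zero) hd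
  simp only [natDegree_X_pow_sub_C, one_mul, Finset.sum_const, Finset.card_univ, smul_eq_mul]
    at hsum
  have hdiv : Fintype.card ι = n / r := by rw [← hsum, Nat.mul_div_cancel _ hr.pos]
  refine ⟨by rw [← hdiv, mul_comm]; exact hsum, ?_⟩
  obtain ⟨E⟩ := hd
  exact ⟨E.trans (LinearEquiv.piCongrLeft F[X] (fun _ : Fin (n / r) => Qmod ((X ^ r - C (c : F)) ^ 1))
    (Fintype.equivFinOfCardEq hdiv))⟩

lemma exists_pow_rep (hr : r.Prime) (c : Fˣ) (hn : r * (n / r) = n) :
    ∃ g : GL (Fin n) F, g ^ r = sc n c := by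
  have hne : (X ^ r - C (c : F)) ≠ 0 := X_pow_sub_C_ne_zero hr.pos _
  have := finite_qmod hne
  obtain ⟨g, ⟨E⟩⟩ := exists_gl_of_module (F := F) (n := n)
    (M := Fin (n / r) → Qmod (X ^ r - C (c : F)))
    (by rw [Module.finrank_pi_fintype]; simp [finrank_qmod]; rw [mul_comm]; exact hn) fun m hm => by
      funext i
      have h1 := congrFun hm i
      obtain ⟨s, hs⟩ := Ideal.Quotient.mk_surjective (m i)
      rw [Pi.smul_apply, ← hs, Pi.zero_apply] at h1
      change Ideal.Quotient.mk _ (X * s) = 0 at h1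
      rw [Ideal.Quotient.eq_zero_iff_mem, Ideal.mem_span_singleton] at h1
      rw [← hs, Pi.zero_apply, Ideal.Quotient.eq_zero_iff_mem, Ideal.mem_span_singleton]
      refine IsCoprime.dvd_of_dvd_mul_left ?_ h1
      refine ((irreducible_X (R := F)).coprime_iff_not_dvd.mpr ?_).symm
      rw [X_dvd_iff]
      simp [hr.ne_zero.symm]
  refine ⟨g, Units.ext (Matrix.toLin'.injective ?_)⟩
  have hkill : ∀ v : Gmod g, (X ^ r - C (c : F)) • v = 0 := fun v => by
    apply E.injective
    rw [map_smul, map_zero]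
    funext i
    obtain ⟨s, hs⟩ := Ideal.Quotient.mk_surjective (E v i)
    rw [Pi.smul_apply, ← hs]
    show Ideal.Quotient.mk _ ((X ^ r - C (c : F)) * s) = 0
    rw [Ideal.Quotient.eq_zero_iff_mem, Ideal.mem_span_singleton]
    exact dvd_mul_right _ _
  have := (gmod_smul_eq_zero_iff _).mp hkill
  rw [map_sub, map_pow, aeval_X, aeval_C, sub_eq_zero, Algebra.algebraMap_eq_smul_one, ← toEnd_sc,
    toEnd, ← Matrix.toLin'_pow g.val r, ← Units.val_pow_eq_pow_val] at this
  exact this

local notation "PGLn" => GL (Fin n) F ⧸ Subgroup.center (GL (Fin n) F)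

/-- Multiplicity vectors of non-scalar elements. -/
abbrev MultData (F : Type u) [Field F] [Fintype F] [DecidableEq F] (n r : ℕ) : Type u :=
  {m : Rts F r → ℕ // ∑ ζ, m ζ = n ∧ ∀ ζ, m ζ ≠ n}

lemma card_multData [DecidableEq F] (hr : r.Prime) (hrq : r ∣ Fintype.card F - 1) (hn : 1 ≤ n) :
    Nat.card (MultData F n r) = Nat.choose (n + r - 1) (r - 1) - r := by
  classical
  have hK : Fintype.card (Rts F r) = r := by rw [← Nat.card_eq_fintype_card]; exact card_rts hrq
  let S := {m : Rts F r → ℕ // ∑ ζ, m ζ = n}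
  let eS : Sym (Rts F r) n ≃ S := Sym.equivNatSumOfFintype (Rts F r) n
  have : Fintype S := Fintype.ofEquiv _ eS
  have hS : Fintype.card S = Nat.choose (n + r - 1) (r - 1) := by
    rw [← Fintype.card_congr eS, Sym.card_sym_eq_choose, hK,
      ← Nat.choose_symm (show n ≤ r + n - 1 by have := hr.pos; omega)]
    congr 1
    · omega
    · omega
  let single : Rts F r → S := fun ζ => ⟨Pi.single ζ n, by simp⟩
  have hsi : Function.Injective single := fun a b h => by
    have := congrFun (congrArg Subtype.val h) a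
    by_contra hne
    simp [single, Pi.single_eq_of_ne hne] at this
    omega
  have himg : ∀ m : S, (∃ ζ, m.1 ζ = n) ↔ m ∈ Finset.univ.image single := by
    intro m
    simp only [Finset.mem_image, Finset.mem_univ, true_and]
    constructor
    · rintro ⟨ζ, hζ⟩
      refine ⟨ζ, Subtype.ext (funext fun η => ?_)⟩
      rcases eq_or_ne η ζ with rfl | hne
      · simp [single, hζ]
      · have h2 : m.1 η + m.1 ζ ≤ n := by
          calc m.1 η + m.1 ζ = ∑ x ∈ {η, ζ}, m.1 x := (Finset.sum_pair hne).symm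
            _ ≤ ∑ x, m.1 x := Finset.sum_le_sum_of_subset (Finset.subset_univ _)
            _ = n := m.2
        simp [single, Pi.single_eq_of_ne hne]
        omega
    · rintro ⟨ζ, rfl⟩
      exact ⟨ζ, by simp [single]⟩
  let e : MultData F n r ≃ {m : S // ¬ ∃ ζ, m.1 ζ = n} :=
    { toFun := fun m => ⟨⟨m.1, m.2.1⟩, fun ⟨ζ, h⟩ => m.2.2 ζ h⟩
      invFun := fun m => ⟨m.1.1, m.1.2, fun ζ h => m.2 ⟨ζ, h⟩⟩
      left_inv := fun _ => rfl
      right_inv := fun _ => rfl }
  rw [Nat.card_congr e, Nat.card_eq_fintype_card, Fintype.card_subtype_compl, hS,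
    Fintype.card_congr (Equiv.subtypeEquivRight himg), Fintype.card_coe,
    Finset.card_image_of_injective _ hsi, Finset.card_univ, hK]

theorem card_pgl_order_r_classes (hr : r.Prime) (hrq : r ∣ Fintype.card F - 1) (hn : 2 ≤ n) :
    Nat.card {C : ConjClasses PGLn // ∃ g : PGLn, ConjClasses.mk g = C ∧ orderOf g = r} =
      (Nat.choose (n + r - 1) (r - 1) - r - (if r ∣ n then 1 else 0)) / r +
        r * (if r ∣ n then 1 else 0) := by
  classical
  have : Fact r.Prime := ⟨hr⟩
  have hK : Nat.card (Rts F r) = r := card_rts hrq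
  letI : Fintype (MultData F n r) := @Fintype.ofFinite _ (Finite.of_injective
    (fun m : MultData F n r => fun ζ => (⟨m.1 ζ, Nat.lt_succ_of_le
      ((Finset.single_le_sum (fun _ _ => Nat.zero_le _) (Finset.mem_univ ζ)).trans m.2.1.le)⟩ :
      Fin (n + 1)))
    fun a b h => Subtype.ext (funext fun ζ => congrArg Fin.val (congrFun h ζ)))
  have hord : ∀ g : GL (Fin n) F, orderOf (g : PGLn) = r ↔
      g ^ r ∈ Subgroup.center (GL (Fin n) F) ∧ g ∉ Subgroup.center (GL (Fin n) F) := fun g => by
    rw [orderOf_eq_prime_iff, ← QuotientGroup.mk_pow, QuotientGroup.eq_one_iff, Ne,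
      QuotientGroup.eq_one_iff]
  have hpowsc : ∀ (g : GL (Fin n) F) (s : Fˣ), (g * sc n s) ^ r = g ^ r * sc n (s ^ r) :=
    fun g s => by rw [(show Commute g (sc n s) from (sc_comm s g).symm).mul_pow, map_pow]
  -- split classes
  have hdiag : ∀ m : MultData F n r, ∃ g : GL (Fin n) F, g ^ r = 1 ∧
      ∀ ζ : Rts F r, Module.finrank F (eigen g ((ζ : Fˣ) : F)) = m.1 ζ :=
    fun m => exists_mult m.1 m.2.1
  choose gm hgm1 hgm2 using hdiag
  have hscalar : ∀ (s : Fˣ) (t : F), (s : F) = t →
      Module.finrank F (eigen (sc n s) t) = n := fun s t hst => by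
    have : eigen (sc n s) t = ⊤ := by
      rw [eq_top_iff]
      intro v _
      rw [mem_eigen, toEnd_sc, ← hst]
      simp
    rw [this, finrank_top, Module.finrank_pi F, Fintype.card_fin]
  have hgmne : ∀ m, gm m ∉ Subgroup.center (GL (Fin n) F) := fun m h => by
    obtain ⟨s, hs⟩ := exists_sc_of_mem_center h
    have h1 := hgm1 m
    rw [hs, ← map_pow] at h1
    have h2 : s ^ r = 1 := sc_injective (n := n) (by omega) (by rw [h1, map_one])
    exact m.2.2 ⟨s, h2⟩ (by rw [← hgm2, hs]; exact hscalar s _ rfl)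
  let φ : MultData F n r → ConjClasses PGLn := fun m => ConjClasses.mk ((gm m : GL (Fin n) F) : PGLn)
  let shift : MultData F n r → Rts F r → MultData F n r := fun m s =>
    ⟨fun ζ => m.1 (ζ * s⁻¹), (Equiv.sum_comp (Equiv.mulRight s⁻¹) m.1).trans m.2.1,
      fun ζ => m.2.2 _⟩
  have hφ : ∀ m m', φ m = φ m' ↔ ∃ s : Rts F r, shift m s = m' := fun m m' => by
    simp only [φ, ConjClasses.mk_eq_mk_iff_isConj]
    constructor
    · intro h
      obtain ⟨s, hs⟩ := mk_conj_iff.mp h.symm
      have hsr : s ^ r = 1 := by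
        obtain ⟨k, hk⟩ := isConj_iff.mp hs
        have h1 : (k * gm m' * k⁻¹) ^ r = k * gm m' ^ r * k⁻¹ := conj_pow
        rw [hk, hpowsc, hgm1, hgm1, one_mul, mul_one, mul_inv_cancel] at h1
        exact sc_injective (n := n) (by omega) (by rw [h1, map_one])
      refine ⟨⟨s, hsr⟩, Subtype.ext (funext fun ζ => ?_)⟩
      show m.1 (ζ * (⟨s, hsr⟩ : Rts F r)⁻¹) = m'.1 ζ
      rw [← hgm2, ← hgm2 m', eigen_conj hs, ← eigen_mul_sc (gm m) s]
      rw [show (s : F) * (((ζ * (⟨s, hsr⟩ : Rts F r)⁻¹ : Rts F r) : Fˣ) : F) = ((ζ : Fˣ) : F) by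
        rw [← Units.val_mul]; simp]
    · rintro ⟨s, rfl⟩
      refine (mk_conj_iff.mpr ⟨(s : Fˣ), ?_⟩).symm
      refine isConj_split hr hrq (hgm1 _) ?_ fun ζ => ?_
      · rw [hpowsc, hgm1, one_mul]
        have : (s : Fˣ) ^ r = 1 := s.2
        rw [this, map_one]
      · rw [hgm2]
        show m.1 (ζ * s⁻¹) = _
        rw [← hgm2, ← eigen_mul_sc (gm m) (s : Fˣ)]
        rw [show ((s : Fˣ) : F) * (((ζ * s⁻¹ : Rts F r) : Fˣ) : F) = ((ζ : Fˣ) : F) by
          rw [← Units.val_mul]; simp]
  let δ : ℕ := if r ∣ n then 1 else 0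
  have hfib : ∀ m : MultData F n r,
      (Finset.univ.filter fun m' => φ m' = φ m).card = if ∀ ζ, m.1 ζ = m.1 1 then 1 else r := by
    intro m
    have heq : (Finset.univ.filter fun m' => φ m' = φ m) = Finset.univ.image (shift m) := by
      ext m'
      simp only [Finset.mem_filter, Finset.mem_univ, true_and, Finset.mem_image]
      rw [eq_comm, hφ]
    rw [heq]
    split_ifs with hc
    · have : ∀ s, shift m s = m := fun s => Subtype.ext (funext fun ζ => by
        show m.1 (ζ * s⁻¹) = m.1 ζ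
        rw [hc, hc ζ])
      rw [show Finset.univ.image (shift m) = {m} from Finset.eq_singleton_iff_unique_mem.mpr
        ⟨Finset.mem_image.mpr ⟨1, Finset.mem_univ _, this 1⟩, fun x hx => by
          obtain ⟨s, -, rfl⟩ := Finset.mem_image.mp hx
          exact this s⟩, Finset.card_singleton]
    · rw [Finset.card_image_of_injective _ ?_, Finset.card_univ, ← Nat.card_eq_fintype_card, hK]
      intro s t hst
      by_contra hne
      refine hc fun ζ => ?_
      have hstep : ∀ η, m.1 (η * (s⁻¹ * t)) = m.1 η := fun η => by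
        have := congrFun (congrArg Subtype.val hst) (η * t)
        simp only [shift, mul_inv_cancel_right] at this
        rw [← this]
        congr 1
        rw [mul_assoc, mul_comm t]
      have hgen : ζ ∈ Subgroup.zpowers (s⁻¹ * t) :=
        mem_zpowers_of_prime_card hK (fun h => hne (inv_mul_eq_one.mp h))
      obtain ⟨j, rfl⟩ := mem_powers_iff_mem_zpowers.mpr hgen
      clear hne hgen
      induction j with
      | zero => simp
      | succ j ih => simp only [pow_succ, hstep] at ih ⊢; exact ih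
  let consts := Finset.univ.filter fun m : MultData F n r => ∀ ζ, m.1 ζ = m.1 1
  have hconst : consts.card = δ := by
    have huniq : ∀ m ∈ consts, ∀ ζ, r * m.1 ζ = n := fun m hm ζ => by
      have h := (Finset.mem_filter.mp hm).2
      have h2 := m.2.1
      rw [Finset.sum_congr rfl (fun x _ => h x), Finset.sum_const, Finset.card_univ,
        ← Nat.card_eq_fintype_card, hK, smul_eq_mul] at h2
      rw [h ζ]; exact h2
    simp only [δ]
    split_ifs with hd
    · rw [Finset.card_eq_one]
      refine ⟨⟨fun _ => n / r, ?_, fun _ => (Nat.div_lt_self (by omega) hr.one_lt).ne⟩, ?_⟩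
      · rw [Finset.sum_const, Finset.card_univ, ← Nat.card_eq_fintype_card, hK, smul_eq_mul,
          Nat.mul_div_cancel' hd]
      · refine Finset.eq_singleton_iff_unique_mem.mpr ⟨by simp [consts], fun m hm => ?_⟩
        refine Subtype.ext (funext fun ζ => ?_)
        exact (Nat.div_eq_of_eq_mul_right hr.pos (huniq m hm ζ).symm).symm
    · exact Finset.card_eq_zero.mpr (Finset.eq_empty_of_forall_notMem fun m hm =>
        hd ⟨m.1 1, (huniq m hm 1).symm⟩)
  have hcount : Nat.card (MultData F n r) + (r - 1) * δ =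
      r * (Finset.univ.image φ).card := by
    rw [Nat.card_eq_fintype_card, ← Finset.card_univ,
      Finset.card_eq_sum_card_image φ, ← hconst]
    have hci : (consts.image φ).card = consts.card := by
      refine Finset.card_image_of_injOn fun a ha b hb h => ?_
      obtain ⟨s, rfl⟩ := (hφ a b).mp h
      exact Subtype.ext (funext fun ζ => by
        show a.1 ζ = a.1 (ζ * s⁻¹)
        rw [(Finset.mem_filter.mp ha).2, (Finset.mem_filter.mp ha).2 (ζ * s⁻¹)])
    rw [← hci]
    have hval : ∀ C ∈ Finset.univ.image φ,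
        (Finset.univ.filter fun m' => φ m' = C).card + (if C ∈ consts.image φ then r - 1 else 0)
          = r := by
      intro C hC
      obtain ⟨m, -, rfl⟩ := Finset.mem_image.mp hC
      rw [hfib m]
      by_cases hc : ∀ ζ, m.1 ζ = m.1 1
      · rw [if_pos hc, if_pos (Finset.mem_image.mpr ⟨m, Finset.mem_filter.mpr ⟨Finset.mem_univ _, hc⟩, rfl⟩)]
        have := hr.one_lt
        omega
      · rw [if_neg hc, if_neg, add_zero]
        intro hmem
        obtain ⟨m', hm', h⟩ := Finset.mem_image.mp hmem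
        obtain ⟨s, rfl⟩ := (hφ m' m).mp h
        refine hc fun ζ => ?_
        show m'.1 (ζ * s⁻¹) = m'.1 (1 * s⁻¹)
        rw [(Finset.mem_filter.mp hm').2, (Finset.mem_filter.mp hm').2 (1 * s⁻¹)]
    have := Finset.sum_congr rfl hval
    rw [Finset.sum_add_distrib, Finset.sum_const, smul_eq_mul, Finset.sum_ite_mem,
      Finset.inter_eq_right.mpr (Finset.image_subset_image (Finset.subset_univ _)), Finset.sum_const,
      smul_eq_mul] at this
    rw [mul_comm (r - 1), this, mul_comm]
  -- classes from non-powers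
  let H : Subgroup Fˣ := (powMonoidHom r : Fˣ →* Fˣ).range
  have hH : Nat.card (Fˣ ⧸ H) = r := by
    have h1 := Subgroup.card_eq_card_quotient_mul_card_subgroup H
    rw [IsCyclic.card_powMonoidHom_range, Nat.card_eq_fintype_card (α := Fˣ), Fintype.card_units,
      Nat.gcd_eq_right hrq] at h1
    obtain ⟨b, hb⟩ := hrq
    have hb0 : 0 < b := Nat.pos_of_ne_zero fun h => by
      rw [h, mul_zero] at hb; have := Fintype.one_lt_card (α := F); omega
    rw [hb, Nat.mul_div_cancel_left _ hr.pos] at h1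
    exact (Nat.eq_of_mul_eq_mul_right hb0 h1).symm
  let T2 := {x : Fˣ ⧸ H // x ≠ 1 ∧ r ∣ n}
  have hnp : ∀ x : T2, ∀ s : F, s ^ r ≠ ((x.1.out : Fˣ) : F) := fun x s hs => by
    apply x.2.1
    rw [← QuotientGroup.out_eq' x.1, QuotientGroup.eq_one_iff]
    have hs0 : s ≠ 0 := fun h => by
      rw [h, zero_pow hr.ne_zero] at hs
      exact (x.1.out : Fˣ).ne_zero hs.symm
    exact ⟨Units.mk0 s hs0, Units.ext (by simpa using hs)⟩
  have hrep2 : ∀ x : T2, ∃ g : GL (Fin n) F, g ^ r = sc n x.1.out := fun x =>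
    exists_pow_rep hr _ (Nat.mul_div_cancel' x.2.2)
  choose g2 hg2 using hrep2
  let ψ : T2 → ConjClasses PGLn := fun x => ConjClasses.mk ((g2 x : GL (Fin n) F) : PGLn)
  have hinv : ∀ {g h : GL (Fin n) F} {c d : Fˣ}, g ^ r = sc n c → h ^ r = sc n d →
      ConjClasses.mk ((g : GL (Fin n) F) : PGLn) = ConjClasses.mk ((h : GL (Fin n) F) : PGLn) →
      (QuotientGroup.mk c : Fˣ ⧸ H) = QuotientGroup.mk d := by
    intro g h c d hg hh hgh
    obtain ⟨s, hs⟩ := mk_conj_iff.mp (ConjClasses.mk_eq_mk_iff_isConj.mp hgh)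
    obtain ⟨k, hk⟩ := isConj_iff.mp hs
    have h1 : (k * g * k⁻¹) ^ r = k * g ^ r * k⁻¹ := conj_pow
    rw [hk, hpowsc, hg, hh, ← sc_comm c k, mul_inv_cancel_right, ← map_mul] at h1
    have h2 := sc_injective (n := n) (by omega) h1
    rw [← h2, QuotientGroup.mk_mul, (QuotientGroup.eq_one_iff (N := H) (s ^ r)).mpr ⟨s, rfl⟩, mul_one]
  have hψ : Function.Injective ψ := fun x y h => Subtype.ext (by
    have := hinv (hg2 x) (hg2 y) h
    rwa [QuotientGroup.out_eq', QuotientGroup.out_eq'] at this)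
  have hdisj : Disjoint (Finset.univ.image φ) (Finset.univ.image ψ) := by
    rw [Finset.disjoint_left]
    intro C h1 h2
    obtain ⟨m, -, rfl⟩ := Finset.mem_image.mp h1
    obtain ⟨x, -, hx⟩ := Finset.mem_image.mp h2
    refine x.2.1 ?_
    have := hinv (hg2 x) (c := x.1.out) (d := 1) (by rw [hgm1, map_one]) hx
    rwa [QuotientGroup.out_eq', QuotientGroup.mk_one] at this
  have hall : ∀ C : ConjClasses PGLn,
      (∃ g : PGLn, ConjClasses.mk g = C ∧ orderOf g = r) ↔
        C ∈ Finset.univ.image φ ∪ Finset.univ.image ψ := by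
    intro C
    constructor
    · rintro ⟨g, rfl, hg⟩
      obtain ⟨g, rfl⟩ := QuotientGroup.mk_surjective g
      obtain ⟨hgr, hgc⟩ := (hord g).mp hg
      obtain ⟨c, hc⟩ := exists_sc_of_mem_center hgr
      rw [Finset.mem_union]
      by_cases hcs : (QuotientGroup.mk c : Fˣ ⧸ H) = 1
      · left
        obtain ⟨s, hs⟩ := (QuotientGroup.eq_one_iff c).mp hcs
        have hs' : s ^ r = c := hs
        have hg' : (g * sc n s⁻¹) ^ r = 1 := by
          rw [hpowsc, hc, ← map_mul, inv_pow, hs', mul_inv_cancel, map_one]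
        let m : MultData F n r := ⟨fun ζ => Module.finrank F (eigen (g * sc n s⁻¹) ((ζ : Fˣ) : F)),
          sum_finrank_eigen hr hrq hg', fun ζ hζ => by
            have hone : sc n (ζ : Fˣ) ^ r = 1 := by
              rw [← map_pow, (show (ζ : Fˣ) ^ r = 1 from ζ.2), map_one]
            have hcj : IsConj (sc n (ζ : Fˣ)) (g * sc n s⁻¹) := by
              refine isConj_split hr hrq hone hg' fun η => ?_
              have hsum := sum_finrank_eigen hr hrq hone
              have hsum' := sum_finrank_eigen hr hrq hg'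
              have hz := hscalar (ζ : Fˣ) _ rfl
              rw [← Finset.add_sum_erase _ _ (Finset.mem_univ ζ)] at hsum hsum'
              rcases eq_or_ne η ζ with rfl | hne
              · rw [hz]; exact hζ.symm
              · have h1 := Finset.single_le_sum
                  (f := fun x : Rts F r => Module.finrank F (eigen (sc n (ζ : Fˣ)) ((x : Fˣ) : F)))
                  (fun _ _ => Nat.zero_le _) (Finset.mem_erase.mpr ⟨hne, Finset.mem_univ η⟩)
                have h2 := Finset.single_le_sum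
                  (f := fun x : Rts F r => Module.finrank F (eigen (g * sc n s⁻¹) ((x : Fˣ) : F)))
                  (fun _ _ => Nat.zero_le _) (Finset.mem_erase.mpr ⟨hne, Finset.mem_univ η⟩)
                simp only at h1 h2 hζ
                omega
            obtain ⟨k, hk⟩ := isConj_iff.mp hcj
            rw [← sc_comm, mul_inv_cancel_right] at hk
            refine hgc ?_
            rw [show g = sc n (ζ : Fˣ) * sc n s by rw [hk, map_inv, inv_mul_cancel_right]]
            exact mul_mem (sc_mem_center _) (sc_mem_center _)⟩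
        refine Finset.mem_image.mpr ⟨m, Finset.mem_univ _, ?_⟩
        show ConjClasses.mk ((gm m : GL (Fin n) F) : PGLn) = _
        rw [ConjClasses.mk_eq_mk_iff_isConj, mk_conj_iff]
        exact ⟨s⁻¹, isConj_split hr hrq (hgm1 m) hg' fun ζ => hgm2 m ζ⟩
      · right
        have hcnp : ∀ b : F, b ^ r ≠ (c : F) := fun b hb => hcs <| (QuotientGroup.eq_one_iff c).mpr
          ⟨Units.mk0 b (fun h => by rw [h, zero_pow hr.ne_zero] at hb; exact c.ne_zero hb.symm),
            Units.ext (by simpa using hb)⟩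
        have hdvd : r ∣ n := ⟨n / r, (pow_decomp hr hcnp hc).1.symm⟩
        let x : T2 := ⟨QuotientGroup.mk c, hcs, hdvd⟩
        refine Finset.mem_image.mpr ⟨x, Finset.mem_univ _, ?_⟩
        show ConjClasses.mk ((g2 x : GL (Fin n) F) : PGLn) = _
        rw [ConjClasses.mk_eq_mk_iff_isConj, mk_conj_iff]
        obtain ⟨s, hs⟩ := QuotientGroup.eq.mp
          (show (QuotientGroup.mk c : Fˣ ⧸ H) = QuotientGroup.mk x.1.out from
            (QuotientGroup.out_eq' x.1).symm)
        refine ⟨s, isConj_of_decomp (pow_decomp hr (hnp x) (hg2 x)).2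
          (pow_decomp hr (hnp x) ?_).2 rfl⟩
        have hs' : s ^ r = c⁻¹ * x.1.out := hs
        rw [hpowsc, hc, ← map_mul, hs', mul_inv_cancel_left]
    · intro hC
      rcases Finset.mem_union.mp hC with h | h
      · obtain ⟨m, -, rfl⟩ := Finset.mem_image.mp h
        exact ⟨_, rfl, (hord _).mpr ⟨by rw [hgm1]; exact one_mem _, hgmne m⟩⟩
      · obtain ⟨x, -, rfl⟩ := Finset.mem_image.mp h
        refine ⟨_, rfl, (hord _).mpr ⟨by rw [hg2]; exact sc_mem_center _, fun hc => ?_⟩⟩
        obtain ⟨s, hs⟩ := exists_sc_of_mem_center hc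
        have h1 := hg2 x
        rw [hs, ← map_pow] at h1
        exact hnp x (s : F) (by rw [← Units.val_pow_eq_pow_val, sc_injective (n := n) (by omega) h1])
  rw [Nat.card_congr (Equiv.subtypeEquivRight hall), Nat.card_eq_fintype_card, Fintype.card_coe,
    Finset.card_union_of_disjoint hdisj, Finset.card_image_of_injective _ hψ, Finset.card_univ,
    ← Nat.card_eq_fintype_card]
  rw [card_multData hr hrq (by omega)] at hcount
  have hT2 : Nat.card T2 = (r - 1) * δ := by
    simp only [δ]
    split_ifs with hd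
    · rw [Nat.card_congr (Equiv.subtypeEquivRight (q := fun x : Fˣ ⧸ H => x ≠ 1) fun x => by simp [hd]),
        Nat.card_eq_fintype_card, Fintype.card_subtype_compl, Fintype.card_subtype_eq,
        ← Nat.card_eq_fintype_card, hH, mul_one]
    · have : IsEmpty T2 := ⟨fun x => hd x.2.2⟩
      simp
  rw [hT2]
  show _ = (_ - δ) / r + r * δ
  set D := Nat.choose (n + r - 1) (r - 1) - r
  set I := (Finset.univ.image φ).card
  have hδ : δ = 0 ∨ δ = 1 := by simp only [δ]; split_ifs <;> simp
  rcases hδ with h | h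
  · rw [h] at hcount ⊢
    rw [mul_zero, add_zero] at hcount
    rw [hcount, Nat.sub_zero, Nat.mul_div_cancel_left _ hr.pos]
    simp
  · rw [h] at hcount ⊢
    rw [mul_one] at hcount
    obtain ⟨I', hI'⟩ : ∃ I', I = I' + 1 := ⟨I - 1, by
      rcases Nat.eq_zero_or_pos I with h0 | h0
      · rw [h0, mul_zero] at hcount; have := hr.two_le; omega
      · omega⟩
    rw [hI', mul_add, mul_one] at hcount
    have h2 := hr.two_le
    rw [show D - 1 = r * I' by omega, Nat.mul_div_cancel_left _ hr.pos, hI']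
    omega

end CfsgLib.GLClassNumber
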