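import Cfsg.Agent.Lib.GLClassNumber.Module

/-!
Unipotent classes of `GL_n(q)` are counted by partitions of `n`.
-/

namespace CfsgLib.GLClassNumber

open Polynomial

universe u

variable {F : Type u} [Field F]

/-- The polynomial `X - 1`. -/
noncomputable abbrev rho (F : Type u) [Field F] : F[X] := X - C 1

lemma natDegree_rho_pow (e : ℕ) : ((rho F) ^ e).natDegree = e := by
  rw [natDegree_pow, natDegree_X_sub_C, mul_one]

lemma card_qmod_rho [Fintype F] (e : ℕ) : Nat.card (Qmod ((rho F) ^ e)) = Fintype.card F ^ e := by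
  have := finite_qmod (F := F) (f := (rho F) ^ e) (pow_ne_zero _ (X_sub_C_ne_zero 1))
  rw [Module.natCard_eq_pow_finrank (K := F), finrank_qmod, natDegree_rho_pow,
    Nat.card_eq_fintype_card]

lemma card_qmod_ker [Fintype F] (e j : ℕ) :
    Nat.card {x : Qmod ((rho F) ^ e) // (rho F) ^ j • x = 0} = Fintype.card F ^ min j e := by
  rcases le_or_gt e j with h | h
  · rw [min_eq_right h, ← card_qmod_rho (F := F) e]
    refine Nat.card_congr (Equiv.subtypeUnivEquiv fun x => ?_)
    obtain ⟨r, rfl⟩ := Ideal.Quotient.mk_surjective x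
    show Ideal.Quotient.mk _ ((rho F) ^ j * r) = 0
    rw [Ideal.Quotient.eq_zero_iff_mem, Ideal.mem_span_singleton]
    exact (pow_dvd_pow _ h).mul_right r
  · rw [min_eq_left h.le, ← card_qmod_rho (F := F) j]
    let T : F[X] →ₗ[F[X]] Qmod ((rho F) ^ e) :=
      LinearMap.toSpanSingleton F[X] _ (Ideal.Quotient.mk _ ((rho F) ^ (e - j)))
    have hT : ∀ r, T r = Ideal.Quotient.mk _ (r * (rho F) ^ (e - j)) := fun r => rfl
    have hsplit : (rho F) ^ e = (rho F) ^ j * (rho F) ^ (e - j) := by
      rw [← pow_add]; congr 1; omega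
    have hne : ∀ k, (rho F) ^ k ≠ 0 := fun k => pow_ne_zero _ (X_sub_C_ne_zero 1)
    have hker : LinearMap.ker T = Ideal.span {(rho F) ^ j} := by
      ext r
      rw [LinearMap.mem_ker, hT, Ideal.Quotient.eq_zero_iff_mem, Ideal.mem_span_singleton,
        Ideal.mem_span_singleton, hsplit]
      exact mul_dvd_mul_iff_right (hne _)
    have hrange : ∀ x, x ∈ LinearMap.range T ↔ (rho F) ^ j • x = 0 := fun x => by
      constructor
      · rintro ⟨r, rfl⟩
        rw [hT]
        show Ideal.Quotient.mk _ ((rho F) ^ j * (r * (rho F) ^ (e - j))) = 0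
        rw [Ideal.Quotient.eq_zero_iff_mem, Ideal.mem_span_singleton, hsplit]
        exact mul_dvd_mul_left _ (dvd_mul_left _ _)
      · intro hx
        obtain ⟨r, rfl⟩ := Ideal.Quotient.mk_surjective x
        change Ideal.Quotient.mk _ ((rho F) ^ j * r) = 0 at hx
        rw [Ideal.Quotient.eq_zero_iff_mem, Ideal.mem_span_singleton, hsplit] at hx
        obtain ⟨r', rfl⟩ := (mul_dvd_mul_iff_left (hne _)).mp hx
        exact ⟨r', by rw [hT, mul_comm]⟩
    rw [Nat.card_congr (Equiv.subtypeEquivRight fun x => (hrange x).symm)]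
    exact Nat.card_congr
      (((Submodule.quotEquivOfEq _ _ hker.symm).trans T.quotKerEquivRange).toEquiv.symm)

variable {n : ℕ}

lemma card_ker_of_decomp [Fintype F] {ι : Type*} [Fintype ι] {g : GL (Fin n) F} {e : ι → ℕ}
    (h : HasDecomp g (fun _ : ι => rho F) e) (j : ℕ) :
    Nat.card {v : Gmod g // (rho F) ^ j • v = 0} = Fintype.card F ^ ∑ i, min j (e i) := by
  obtain ⟨E⟩ := h
  rw [Nat.card_congr (E.toEquiv.subtypeEquiv (q := fun x => (rho F) ^ j • x = 0) fun v => by
    constructor
    · intro hv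
      show (rho F) ^ j • E v = 0
      rw [← map_smul, hv, map_zero]
    · intro hv
      change (rho F) ^ j • E v = 0 at hv
      rwa [← map_smul, map_eq_zero_iff _ E.injective] at hv)]
  let Ψ : {b : (i : ι) → Qmod ((rho F) ^ e i) // (rho F) ^ j • b = 0} ≃
      ((i : ι) → {x : Qmod ((rho F) ^ e i) // (rho F) ^ j • x = 0}) :=
    { toFun := fun b i => ⟨b.1 i, congrFun b.2 i⟩
      invFun := fun f => ⟨fun i => (f i).1, funext fun i => (f i).2⟩
      left_inv := fun _ => rfl
      right_inv := fun _ => rfl }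
  rw [Nat.card_congr Ψ, Nat.card_pi, ← Finset.prod_pow_eq_pow_sum]
  exact Finset.prod_congr rfl fun i _ => card_qmod_ker (e i) j

lemma countP_gt_eq (M : Multiset ℕ) (j : ℕ) :
    (M.map (min j)).sum + M.countP (fun a => j < a) = (M.map (min (j + 1))).sum := by
  induction M using Multiset.induction with
  | empty => simp
  | cons a M ih =>
    simp only [Multiset.map_cons, Multiset.sum_cons, Multiset.countP_cons]
    split_ifs with h
    · rw [min_eq_left h.le, min_eq_left h, ← ih]; ring
    · rw [min_eq_right (not_lt.mp h), min_eq_right (by omega), ← ih]; ring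

lemma countP_gt_split (M : Multiset ℕ) (j : ℕ) :
    M.countP (fun a => j < a) = M.count (j + 1) + M.countP (fun a => j + 1 < a) := by
  induction M using Multiset.induction with
  | empty => simp
  | cons a M ih =>
    simp only [Multiset.countP_cons, Multiset.count_cons, ih]
    split_ifs <;> omega

lemma multiset_eq_of_min_sums {M N : Multiset ℕ} (hM : ∀ a ∈ M, 1 ≤ a) (hN : ∀ a ∈ N, 1 ≤ a)
    (h : ∀ j, (M.map (min j)).sum = (N.map (min j)).sum) : M = N := by
  have hg : ∀ j, M.countP (fun a => j < a) = N.countP (fun a => j < a) := fun j => by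
    have h1 := countP_gt_eq M j
    have h2 := countP_gt_eq N j
    have := h j; have := h (j + 1); omega
  refine Multiset.ext.mpr fun a => ?_
  rcases a with _ | j
  · rw [Multiset.count_eq_zero.mpr fun h0 => absurd (hM 0 h0) (by omega),
      Multiset.count_eq_zero.mpr fun h0 => absurd (hN 0 h0) (by omega)]
  · have := countP_gt_split M j; have := countP_gt_split N j
    have := hg j; have := hg (j + 1); omega

/-- The multiset of exponents of a decomposition. -/
def expMultiset {ι : Type*} [Fintype ι] (e : ι → ℕ) : Multiset ℕ := Finset.univ.val.map e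

lemma expMultiset_unique [Fintype F] {ι κ : Type*} [Fintype ι] [Fintype κ] {g : GL (Fin n) F}
    {e : ι → ℕ} {e' : κ → ℕ} (he : ∀ i, 1 ≤ e i) (he' : ∀ i, 1 ≤ e' i)
    (h : HasDecomp g (fun _ : ι => rho F) e) (h' : HasDecomp g (fun _ : κ => rho F) e') :
    expMultiset e = expMultiset e' := by
  refine multiset_eq_of_min_sums (by simp [expMultiset]; exact he) (by simp [expMultiset]; exact he')
    fun j => ?_
  have := (card_ker_of_decomp h j).symm.trans (card_ker_of_decomp h' j)
  have := Nat.pow_right_injective Fintype.one_lt_card this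
  simpa [expMultiset, Multiset.map_map] using this

lemma natDegree_rho : (rho F).natDegree = 1 := natDegree_X_sub_C 1

lemma gmod_smul_eq_zero_iff {g : GL (Fin n) F} (P : F[X]) :
    (∀ v : Gmod g, P • v = 0) ↔ aeval (toEnd g) P = 0 := by
  constructor
  · intro h
    refine LinearMap.ext fun w => ?_
    have h1 := congrArg (Module.AEval'.of (toEnd g)).symm (h (Module.AEval'.of (toEnd g) w))
    rw [Module.AEval.of_symm_smul, map_zero, LinearEquiv.symm_apply_apply] at h1
    exact h1
  · intro h v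
    apply (Module.AEval'.of (toEnd g)).symm.injective
    rw [Module.AEval.of_symm_smul, h, map_zero]
    simp

lemma aeval_rho_pow_charP (p : ℕ) [Fact p.Prime] [CharP F p] (g : GL (Fin n) F) (k : ℕ) :
    aeval (toEnd g) ((rho F) ^ p ^ k) = Matrix.toLin' (g ^ p ^ k : GL (Fin n) F).val - 1 := by
  have : (rho F) ^ p ^ k = X ^ p ^ k - C 1 := by
    rw [rho, sub_pow_char_pow, map_one, one_pow]
  rw [this, map_sub, map_pow, aeval_X, map_one, map_one, toEnd, Units.val_pow_eq_pow_val]
  congr 1
  exact (map_pow (Matrix.toLinAlgEquiv' : Matrix (Fin n) (Fin n) F ≃ₐ[F] _) g.val (p ^ k)).symm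

lemma rho_kills_iff (p : ℕ) [Fact p.Prime] [CharP F p] (g : GL (Fin n) F) (k : ℕ) :
    (∀ v : Gmod g, (rho F) ^ p ^ k • v = 0) ↔ g ^ p ^ k = 1 := by
  rw [gmod_smul_eq_zero_iff, aeval_rho_pow_charP, sub_eq_zero]
  constructor
  · intro h
    apply Units.ext
    apply Matrix.toLin'.injective
    rw [h, Units.val_one, Matrix.toLin'_one]
    rfl
  · intro h
    rw [h, Units.val_one, Matrix.toLin'_one]
    rfl

lemma exists_unipotent_decomp (p : ℕ) [Fact p.Prime] [CharP F p] (g : GL (Fin n) F) {k : ℕ}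
    (hg : g ^ p ^ k = 1) :
    ∃ (ι : Type u) (_ : Fintype ι) (e : ι → ℕ),
      (∀ i, 1 ≤ e i) ∧ HasDecomp g (fun _ : ι => rho F) e := by
  obtain ⟨ι, fι, q, e, hq, ⟨E⟩⟩ := exists_decomp g
  have hrho : ∀ i, q i = rho F := fun i => by
    classical
    have h1 := (rho_kills_iff p g k).mpr hg
      (E.symm (Pi.single i (Ideal.Quotient.mk _ (1 : F[X]))))
    rw [← map_smul, map_eq_zero_iff _ E.symm.injective] at h1
    have h2 := congrFun h1 i
    rw [Pi.smul_apply, Pi.single_eq_same, Pi.zero_apply] at h2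
    change Ideal.Quotient.mk _ ((rho F) ^ p ^ k * 1) = 0 at h2
    rw [Ideal.Quotient.eq_zero_iff_mem, Ideal.mem_span_singleton, mul_one] at h2
    have h3 : q i ∣ rho F :=
      (hq i).2.1.prime.dvd_of_dvd_pow
        (((dvd_pow_self _ (by have := (hq i).2.2.2; omega))).trans h2)
    exact eq_of_monic_of_associated (hq i).1 (monic_X_sub_C 1)
      ((hq i).2.1.associated_of_dvd (irreducible_X_sub_C 1) h3)
  refine ⟨ι, fι, e, fun i => (hq i).2.2.2, ?_⟩
  obtain rfl : q = fun _ => rho F := funext hrho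
  exact ⟨E⟩

lemma exists_gl_of_parts [Fintype F] (M : Multiset ℕ) (hM : M.sum = n) :
    ∃ g : GL (Fin n) F, HasDecomp g (fun _ : Fin M.toList.length => rho F)
      (fun i => M.toList.get i) := by
  have : ∀ i : Fin M.toList.length, Module.Finite F (Qmod ((rho F) ^ M.toList.get i)) :=
    fun i => finite_qmod (pow_ne_zero _ (X_sub_C_ne_zero 1))
  refine exists_gl_of_module ?_ fun m hm => ?_
  · rw [Module.finrank_pi_fintype]
    simp only [finrank_qmod, natDegree_rho_pow]
    rw [← List.sum_ofFn, List.ofFn_get, Multiset.sum_toList, hM]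
  · funext i
    have h1 := congrFun hm i
    obtain ⟨r, hr⟩ := Ideal.Quotient.mk_surjective (m i)
    rw [Pi.smul_apply, ← hr, Pi.zero_apply] at h1
    change Ideal.Quotient.mk _ (X * r) = 0 at h1
    rw [Ideal.Quotient.eq_zero_iff_mem, Ideal.mem_span_singleton] at h1
    rw [← hr, Pi.zero_apply, Ideal.Quotient.eq_zero_iff_mem, Ideal.mem_span_singleton]
    refine IsCoprime.dvd_of_dvd_mul_left ?_ h1
    refine IsCoprime.pow_left ?_
    exact ⟨-1, 1, by simp [rho]⟩

theorem card_unipotent_classes [Fintype F] (p : ℕ) [Fact p.Prime] [CharP F p] :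
    Nat.card {C : ConjClasses (GL (Fin n) F) //
      ∃ g : GL (Fin n) F, (∃ k : ℕ, orderOf g = p ^ k) ∧ ConjClasses.mk g = C} =
      Fintype.card (Nat.Partition n) := by
  classical
  rw [← Nat.card_eq_fintype_card]
  have hex : ∀ C : {C : ConjClasses (GL (Fin n) F) //
      ∃ g : GL (Fin n) F, (∃ k : ℕ, orderOf g = p ^ k) ∧ ConjClasses.mk g = C},
      ∃ (g : GL (Fin n) F) (ι : Type u) (_ : Fintype ι) (e : ι → ℕ),
        (∀ i, 1 ≤ e i) ∧ HasDecomp g (fun _ : ι => rho F) e ∧ ConjClasses.mk g = C.1 := by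
    rintro ⟨C, g, ⟨k, hk⟩, hgC⟩
    obtain ⟨ι, fι, e, he, hd⟩ := exists_unipotent_decomp p g (k := k)
      (by rw [← hk]; exact pow_orderOf_eq_one g)
    exact ⟨g, ι, fι, e, he, hd, hgC⟩
  choose g ι fι e he hd hgC using hex
  let parts := fun C => @expMultiset (ι C) (fι C) (e C)
  have hsum : ∀ C, (parts C).sum = n := fun C => by
    have h := @finrank_decomp F _ n (ι C) (fι C) (g C) _ _
      (fun _ => X_sub_C_ne_zero 1) (hd C)
    simp only [natDegree_rho, mul_one] at h
    exact h
  let Φ := fun C => (⟨parts C, fun {i} hi => by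
    obtain ⟨j, -, rfl⟩ := Multiset.mem_map.mp hi
    exact he C j, hsum C⟩ : Nat.Partition n)
  refine le_antisymm (Nat.card_le_card_of_injective Φ ?_) ?_
  · intro C D h
    have h' : parts C = parts D := congrArg Nat.Partition.parts h
    refine Subtype.ext ?_
    rw [← hgC C, ← hgC D, ConjClasses.mk_eq_mk_iff_isConj]
    refine @isConj_of_decomp F _ n (ι C) (ι D) (fι C) (fι D) _ _ _ _ _ _ (hd C) (hd D) ?_
    have h2 := congrArg (Multiset.map fun a => (rho F, a)) h'
    simpa [parts, expMultiset, Multiset.map_map] using h2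
  · have hex' := fun μ : Nat.Partition n => exists_gl_of_parts (F := F) μ.parts μ.parts_sum
    choose gp hgp using hex'
    have hord : ∀ μ, ∃ k, orderOf (gp μ) = p ^ k := fun μ => by
      have hkill : ∀ v : Gmod (gp μ), (rho F) ^ p ^ n • v = 0 := fun v => by
        obtain ⟨E⟩ := hgp μ
        apply E.injective
        rw [map_smul, map_zero]
        funext i
        obtain ⟨r, hr⟩ := Ideal.Quotient.mk_surjective (E v i)
        rw [Pi.smul_apply, ← hr]
        show Ideal.Quotient.mk _ ((rho F) ^ p ^ n * r) = 0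
        rw [Ideal.Quotient.eq_zero_iff_mem, Ideal.mem_span_singleton]
        refine (pow_dvd_pow _ ?_).mul_right r
        have hmem : μ.parts.toList.get i ∈ μ.parts := Multiset.mem_toList.mp (List.get_mem _ _)
        exact (μ.le_of_mem_parts hmem).trans (Nat.lt_pow_self (Fact.out : p.Prime).one_lt).le
      obtain ⟨k, -, hk⟩ := (Nat.dvd_prime_pow (Fact.out : p.Prime)).mp
        (orderOf_dvd_of_pow_eq_one ((rho_kills_iff p (gp μ) n).mp hkill))
      exact ⟨k, hk⟩
    refine Nat.card_le_card_of_injective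
      (fun μ => (⟨ConjClasses.mk (gp μ), gp μ, hord μ, rfl⟩ : {C : ConjClasses (GL (Fin n) F) //
        ∃ g : GL (Fin n) F, (∃ k : ℕ, orderOf g = p ^ k) ∧ ConjClasses.mk g = C})) ?_
    intro μ ν h
    obtain ⟨E⟩ := equiv_of_isConj (ConjClasses.mk_eq_mk_iff_isConj.mp (congrArg Subtype.val h))
    obtain ⟨Eν⟩ := hgp ν
    have h1 : HasDecomp (gp μ) (fun _ : Fin ν.parts.toList.length => rho F)
        (fun i => ν.parts.toList.get i) := ⟨E.trans Eν⟩
    have hpos : ∀ (μ : Nat.Partition n) (i : Fin μ.parts.toList.length),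
        1 ≤ μ.parts.toList.get i := fun μ i =>
      μ.parts_pos (Multiset.mem_toList.mp (List.get_mem _ _))
    have h2 := expMultiset_unique (hpos μ) (hpos ν) (hgp μ) h1
    simp only [expMultiset, Fin.univ_val_map, List.ofFn_get, Multiset.coe_toList] at h2
    exact Nat.Partition.ext h2

end CfsgLib.GLClassNumber
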